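import Cfsg.Agent.H294.PU.Gen_m3
import Cfsg.Agent.H756.PU.AsmGen
import Cfsg.Agent.H956.Co1P.Dat
import Cfsg.Agent.FastGrp
import Cfsg.Agent.Prune
set_option linter.all false
prune_inst 0x7f00000000000000000000000000000000000000000000000000000000000000000000000000000000000000000000000000000000000000000000000000000000000000000000000000000000000000003fffffffffffffffffffffffffffbeffbdffffffff
open scoped Cfsg.Agent.FastGrp

-- part: H815/P4/Cx
section
/-!
# S5210, `q = 3`: coordinates of the field with 9 elements (helper815)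
-/

set_option autoImplicit false

namespace Cfsg.Agent.H815.P4

open Cfsg Cfsg.FusionSystem Cfsg.Agent.H776.P4
open Cfsg.Agent.H756.PU (HypK)

universe u

/-- coordinates over `ZMod 3` of the field with 9 elements -/
structure Cx (K : Type u) [Field K] [StarRing K] where
  i : K
  c : ZMod 3 →+* K
  re : K → ZMod 3
  im : K → ZMod 3
  ii : i * i = -1
  si : star i = -i
  sc : ∀ a, star (c a) = c a
  eq : ∀ x, c (re x) + c (im x) * i = x
  uniq : ∀ a b a' b' : ZMod 3, c a + c b * i = c a' + c b' * i → a = a' ∧ b = b'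

theorem p_eq {p n : ℕ} (hp : p.Prime) (h : p ^ n = 3) : p = 3 := by
  have hn : n ≠ 0 := by
    rintro rfl
    norm_num at h
  have h1 : p ∣ 3 := by
    rw [← h]
    exact dvd_pow_self p hn
  exact (Nat.prime_dvd_prime_iff_eq hp Nat.prime_three).1 h1

theorem exists_Cx {K : Type u} [Field K] [StarRing K] {p n : ℕ} (hK : HypK K p n) (h : p ^ n = 3) :
    Nonempty (Cx K) := by
  obtain rfl := p_eq hK.pp h
  have hc := hK.char
  have hf := hK.fin
  have hcard : Nat.card K = 9 := by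
    rw [hK.card, h]
    norm_num
  have hst : ∀ x : K, star x = x ^ 3 := by
    intro x
    rw [hK.star_eq, h]
  let _ : Fintype K := Fintype.ofFinite K
  have hcard' : Fintype.card K = 9 := by rw [← Nat.card_eq_fintype_card, hcard]
  obtain ⟨i, hi⟩ : IsSquare (-1 : K) := by
    rw [FiniteField.isSquare_neg_one_iff, hcard']
    norm_num
  let c : ZMod 3 →+* K := ZMod.castHom (dvd_refl 3) K
  have hcinj : Function.Injective c := c.injective
  have hni : ∀ a : ZMod 3, c a ≠ i := by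
    intro a ha
    have h1 : c (a * a + 1) = 0 := by
      rw [map_add, map_mul, map_one, ha, ← hi]
      ring
    have h2 : a * a + 1 = 0 := hcinj (by rw [h1, map_zero])
    have h3 : ∀ a : ZMod 3, a * a + 1 ≠ 0 := by decide
    exact h3 a h2
  have huniq : ∀ a b a' b' : ZMod 3, c a + c b * i = c a' + c b' * i → a = a' ∧ b = b' := by
    intro a b a' b' he
    have hb : b = b' := by
      by_contra hne
      have h1 : c (b' - b) ≠ 0 := by
        intro h0
        exact hne (sub_eq_zero.1 (hcinj (by rw [h0, map_zero]))).symm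
      have h2 : c (b' - b) * i = c (a - a') := by
        rw [map_sub, map_sub]
        linear_combination -he
      have h3 : c ((b' - b)⁻¹ * (a - a')) = i := by
        rw [map_mul, ← h2, ← mul_assoc, ← map_mul, inv_mul_cancel₀, map_one, one_mul]
        intro h0
        exact h1 (by rw [h0, map_zero])
      exact hni _ h3
    subst hb
    exact ⟨hcinj (add_right_cancel he), rfl⟩
  have hinj : Function.Injective (fun t : ZMod 3 × ZMod 3 => c t.1 + c t.2 * i) := by
    rintro ⟨a, b⟩ ⟨a', b'⟩ he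
    obtain ⟨h1, h2⟩ := huniq _ _ _ _ he
    exact Prod.ext h1 h2
  have hbij : Function.Bijective (fun t : ZMod 3 × ZMod 3 => c t.1 + c t.2 * i) := by
    refine (Fintype.bijective_iff_injective_and_card _).2 ⟨hinj, ?_⟩
    rw [hcard']
    decide
  choose f hf' using hbij.2
  exact ⟨{
    i := i
    c := c
    re := fun x => (f x).1
    im := fun x => (f x).2
    ii := hi.symm
    si := by
      rw [hst, pow_succ, pow_two, ← hi]
      ring
    sc := by
      intro a
      rw [hst, ← map_pow]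
      congr 1
      revert a
      decide
    eq := hf'
    uniq := huniq }⟩

namespace Cx

variable {K : Type u} [Field K] [StarRing K] (C : Cx K)

theorem re_mk (a b : ZMod 3) : C.re (C.c a + C.c b * C.i) = a := (C.uniq _ _ _ _ (C.eq _)).1
theorem im_mk (a b : ZMod 3) : C.im (C.c a + C.c b * C.i) = b := (C.uniq _ _ _ _ (C.eq _)).2

theorem ext {x y : K} (h1 : C.re x = C.re y) (h2 : C.im x = C.im y) : x = y := by
  rw [← C.eq x, ← C.eq y, h1, h2]

theorem re_c (a : ZMod 3) : C.re (C.c a) = a := by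
  have := C.re_mk a 0
  rwa [map_zero, zero_mul, add_zero] at this

theorem im_c (a : ZMod 3) : C.im (C.c a) = 0 := by
  have := C.im_mk a 0
  rwa [map_zero, zero_mul, add_zero] at this

theorem re_zero : C.re 0 = 0 := by rw [← map_zero C.c, C.re_c]
theorem im_zero : C.im 0 = 0 := by rw [← map_zero C.c, C.im_c]
theorem re_one : C.re 1 = 1 := by rw [← map_one C.c, C.re_c]
theorem im_one : C.im 1 = 0 := by rw [← map_one C.c, C.im_c]

theorem re_i : C.re C.i = 0 := by
  have := C.re_mk 0 1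
  rwa [map_zero, map_one, one_mul, zero_add] at this

theorem im_i : C.im C.i = 1 := by
  have := C.im_mk 0 1
  rwa [map_zero, map_one, one_mul, zero_add] at this

theorem re_add (x y : K) : C.re (x + y) = C.re x + C.re y := by
  have : x + y = C.c (C.re x + C.re y) + C.c (C.im x + C.im y) * C.i := by
    conv_lhs => rw [← C.eq x, ← C.eq y]
    rw [map_add, map_add]
    ring
  rw [this, C.re_mk]

theorem im_add (x y : K) : C.im (x + y) = C.im x + C.im y := by
  have : x + y = C.c (C.re x + C.re y) + C.c (C.im x + C.im y) * C.i := by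
    conv_lhs => rw [← C.eq x, ← C.eq y]
    rw [map_add, map_add]
    ring
  rw [this, C.im_mk]

theorem re_mul (x y : K) : C.re (x * y) = C.re x * C.re y - C.im x * C.im y := by
  have : x * y = C.c (C.re x * C.re y - C.im x * C.im y) + C.c (C.re x * C.im y + C.im x * C.re y) * C.i := by
    conv_lhs => rw [← C.eq x, ← C.eq y]
    rw [map_sub, map_mul, map_mul, map_add, map_mul, map_mul]
    linear_combination (C.c (C.im x) * C.c (C.im y)) * C.ii
  rw [this, C.re_mk]

theorem im_mul (x y : K) : C.im (x * y) = C.re x * C.im y + C.im x * C.re y := by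
  have : x * y = C.c (C.re x * C.re y - C.im x * C.im y) + C.c (C.re x * C.im y + C.im x * C.re y) * C.i := by
    conv_lhs => rw [← C.eq x, ← C.eq y]
    rw [map_sub, map_mul, map_mul, map_add, map_mul, map_mul]
    linear_combination (C.c (C.im x) * C.c (C.im y)) * C.ii
  rw [this, C.im_mk]

theorem star_eq (x : K) : star x = C.c (C.re x) + C.c (- C.im x) * C.i := by
  conv_lhs => rw [← C.eq x]
  rw [star_add, star_mul', C.sc, C.sc, C.si, map_neg]
  ring

theorem re_star (x : K) : C.re (star x) = C.re x := by rw [C.star_eq, C.re_mk]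
theorem im_star (x : K) : C.im (star x) = - C.im x := by rw [C.star_eq, C.im_mk]

theorem re_neg (x : K) : C.re (-x) = - C.re x := by
  have h := C.re_add x (-x)
  rw [add_neg_cancel, C.re_zero] at h
  exact (neg_eq_of_add_eq_zero_right h.symm).symm

theorem im_neg (x : K) : C.im (-x) = - C.im x := by
  have h := C.im_add x (-x)
  rw [add_neg_cancel, C.im_zero] at h
  exact (neg_eq_of_add_eq_zero_right h.symm).symm

theorem re_sub (x y : K) : C.re (x - y) = C.re x - C.re y := by rw [sub_eq_add_neg, C.re_add, C.re_neg, sub_eq_add_neg]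
/-- the elements fixed by `star` -/
theorem im_of_fix {x : K} (h : star x = x) : C.im x = 0 := by
  have h1 := C.im_star x
  rw [h] at h1
  have h2 : ∀ a : ZMod 3, a = -a → a = 0 := by decide
  exact h2 _ h1

theorem c_re_of_fix {x : K} (h : star x = x) : C.c (C.re x) = x := by
  have h1 := C.eq x
  rwa [C.im_of_fix h, map_zero, zero_mul, add_zero] at h1

include C in
/-- a ring automorphism is the identity or `star` -/
theorem aut_cases (τ : K ≃+* K) : (∀ x, τ x = x) ∨ ∀ x, τ x = star x := by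
  have hc : ∀ a : ZMod 3, τ (C.c a) = C.c a := by
    intro a
    have h1 : (τ.toRingHom.comp C.c) = C.c := Subsingleton.elim _ _
    exact congrArg (fun f : ZMod 3 →+* K => f a) h1
  have hi : τ C.i = C.i ∨ τ C.i = - C.i := by
    have h1 : τ C.i * τ C.i = C.i * C.i := by rw [← map_mul, C.ii, map_neg, map_one]
    exact mul_self_eq_mul_self_iff.1 h1
  rcases hi with hi | hi
  · left
    intro x
    conv_lhs => rw [← C.eq x]
    rw [map_add, map_mul, hc, hc, hi, C.eq]
  · right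
    intro x
    conv_lhs => rw [← C.eq x]
    rw [map_add, map_mul, hc, hc, hi, C.star_eq, map_neg]
    ring

end Cx

end Cfsg.Agent.H815.P4
end

-- part: H815/P4/Base
section
/-!
# S5210, `q = 3` (3P): orders, normalizers (helper815)

* `nn_wv`, `nn_wq` : the Weyl elements do not normalize `Aut_S(V)`, `Aut_S(Q)`
* `card_inn` : `|Inn(PG K)| = 243`; `card_TP` : `|TP K| = 32`; `card_sup`
-/

set_option autoImplicit false

namespace Cfsg.Agent.H815.P4

open Cfsg Cfsg.FusionSystem Cfsg.Agent.H776.P4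
open Cfsg.Agent.H756.PU (HypK Ess Inv Com NormAut TIAut AF)

universe u v

section
variable {K : Type u} [Field K] [StarRing K]

theorem normal_PV : (PV K).Normal := by
  constructor
  intro g h1 y
  have h1' : g.r = 0 := h1
  show (y * g * y⁻¹).r = 0
  simp [h1']

theorem normal_PQ : (PQ K).Normal := by
  constructor
  intro g h1 y
  have h1' : g.c = 0 := h1
  show (y * g * y⁻¹).c = 0
  simp [h1']

theorem nn_wv {γ : MulAut (PV K)} (h : IsWV γ) : ¬ NormAut (⊤ : Subgroup (PG K)) γ := by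
  intro hn
  have hQn := normal_PV (K := K)
  let x : PG K := { r := 1, a := 0, b := 0, c := 0, ha := by simp, hc := by simp }
  let e1 : PV K := ⟨{ r := 0, a := 0, b := 0, c := 1, ha := by simp, hc := by simp }, rfl⟩
  have h1 := hn (MulAut.conjNormal x) ((H802.mem_autInducedBy_iff _ _ _).2 ⟨x, trivial, fun e => rfl⟩)
  obtain ⟨y, -, hy⟩ := (H802.mem_autInducedBy_iff _ _ _).1 h1
  have h2 := congrArg PG.c (hy (γ e1))
  rw [MulAut.mul_apply, MulAut.mul_apply, MulAut.inv_apply_self, h.c] at h2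
  have h3 : ((MulAut.conjNormal x e1 : PV K) : PG K).a = 1 := by
    show (x * (e1 : PG K) * x⁻¹).a = 1
    simp only [PG.mul_a, PG.inv_a, PG.inv_b, x, e1, _root_.add_zero, _root_.star_zero, _root_.MulZeroClass.mul_zero, _root_.star_one, _root_.mul_one, _root_.zero_add, _root_.neg_zero, _root_.sub_self, _root_.Cfsg.Agent.H776.P4.PG.mul_r, _root_.Cfsg.Agent.H776.P4.PG.inv_c]
  have h4 : (y * ((γ e1 : PV K) : PG K) * y⁻¹).c = 0 := by
    rw [PG.mul_c, PG.mul_c, PG.inv_c, h.c]
    show y.c + 0 + -y.c = 0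
    ring
  rw [h3, h4] at h2
  exact one_ne_zero h2

theorem nn_wq {γ : MulAut (PQ K)} (h : IsWQ γ) : ¬ NormAut (⊤ : Subgroup (PG K)) γ := by
  intro hn
  have hQn := normal_PQ (K := K)
  let x : PG K := { r := 0, a := 0, b := 0, c := 1, ha := by simp, hc := by simp }
  let e1 : PQ K := ⟨{ r := 1, a := 0, b := 0, c := 0, ha := by simp, hc := by simp }, rfl⟩
  have h1 := hn (MulAut.conjNormal x) ((H802.mem_autInducedBy_iff _ _ _).2 ⟨x, trivial, fun e => rfl⟩)
  obtain ⟨y, -, hy⟩ := (H802.mem_autInducedBy_iff _ _ _).1 h1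
  have h2 := congrArg PG.r (hy (γ e1))
  rw [MulAut.mul_apply, MulAut.mul_apply, MulAut.inv_apply_self, h.r] at h2
  have h3 : ((MulAut.conjNormal x e1 : PQ K) : PG K).b = -1 := by
    show (x * (e1 : PG K) * x⁻¹).b = -1
    simp only [PG.inv_b, PG.mul_b, x, e1, _root_.add_zero, _root_.MulZeroClass.mul_zero, _root_.neg_zero, _root_.mul_one, _root_.Cfsg.Agent.H776.P4.PG.mul_r, _root_.zero_add, _root_.Cfsg.Agent.H776.P4.PG.inv_c, _root_.mul_neg]
  have h4 : (y * ((γ e1 : PQ K) : PG K) * y⁻¹).r = 0 := by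
    rw [PG.mul_r, PG.mul_r, PG.inv_r, h.r]
    show y.r + 0 + -y.r = 0
    ring
  rw [h3, h4] at h2
  exact one_ne_zero (neg_eq_zero.1 h2)

/-- the centre -/
theorem center_eq (h3 : (2 : K) ≠ 0) {ι : K} (hi : star ι = -ι) (hi0 : ι ≠ 0) : Subgroup.center (PG K) = PZ K := by
  ext g
  constructor
  · intro hg
    rw [Subgroup.mem_center_iff] at hg
    have h1 := congrArg PG.b (hg { r := 0, a := 0, b := 0, c := 1, ha := by simp, hc := by simp })
    have h2 := congrArg PG.b (hg { r := 1, a := 0, b := 0, c := 0, ha := by simp, hc := by simp })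
    have h4 := congrArg PG.a (hg { r := 1, a := 0, b := 0, c := 0, ha := by simp, hc := by simp })
    have h5 := congrArg PG.a (hg { r := ι, a := 0, b := 0, c := 0, ha := by simp, hc := by simp })
    simp only [PG.mul_b, zero_mul, add_zero, zero_add, mul_one, one_mul, mul_zero, add_eq_left, left_eq_add,
      star_zero, PG.mul_a, star_one, hi] at h1 h2 h4 h5
    have hr : g.r = 0 := by simpa using h1
    have hc : g.c = 0 := by simpa using h2
    rw [hc] at h4 h5
    have h6 : star g.b + g.b = 0 := by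
      have : g.a + star g.b + g.b + 0 = g.a := by simpa only [_root_.add_zero] using h4
      linear_combination this
    have h7 : star g.b - g.b = 0 := by
      have : ι * (star g.b - g.b) = 0 := by linear_combination h5
      exact (mul_eq_zero.1 this).resolve_left hi0
    refine ⟨hr, ?_, hc⟩
    have h8 : 2 * g.b = 0 := by linear_combination h6 - h7
    exact (mul_eq_zero.1 h8).resolve_left h3
  · rintro ⟨hr, hb, hc⟩
    rw [Subgroup.mem_center_iff]
    intro x
    ext
    · simp [hr]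
    · simp only [PG.mul_a, hb, hr, hc, star_zero]
      ring
    · simp only [PG.mul_b, hb, hr, hc]
      ring
    · simp [hc]

end

theorem card_mul_relIndex {L : Type*} [Group L] {H K : Subgroup L} (h : H ≤ K) :
    Nat.card H * H.relIndex K = Nat.card K := by
  have h1 := Subgroup.card_mul_index (H.subgroupOf K)
  rw [Nat.card_congr (Subgroup.subgroupOfEquivOfLe h).toEquiv] at h1
  exact h1

/-- the product of a normal subgroup and a subgroup of coprime order -/
theorem card_sup {G : Type*} [Group G] [Finite G] (N D : Subgroup G) [hn : N.Normal]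
    (h : (Nat.card N).Coprime (Nat.card D)) : Nat.card (N ⊔ D : Subgroup G) = Nat.card N * Nat.card D := by
  have h1 : N ⊓ D = ⊥ := (Subgroup.disjoint_of_coprime_natCard h).eq_bot
  rw [← card_mul_relIndex (le_sup_left : N ≤ N ⊔ D), sup_comm, Subgroup.relIndex_sup_right,
    ← Subgroup.inf_relIndex_right, h1, Subgroup.relIndex_bot_left]

section
variable {K : Type u} [Field K] [StarRing K] {p n : ℕ}

theorem finite_PG (hK : HypK K p n) : Finite (PG K) := by
  have hf := hK.fin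
  refine Finite.of_injective (fun g : PG K => (g.r, g.a, g.b, g.c)) ?_
  intro x y hxy
  simp only [Prod.mk.injEq] at hxy
  exact PG.ext hxy.1 hxy.2.1 hxy.2.2.1 hxy.2.2.2

theorem finite_aut (hK : HypK K p n) : Finite (MulAut (PG K)) := by
  have := finite_PG hK
  exact Finite.of_injective (fun e : MulAut (PG K) => (e : PG K → PG K)) (fun a b h => MulEquiv.ext (fun x => congrFun h x))

/-- `|Z| = 3` -/
theorem card_PZ (C : Cx K) : Nat.card (PZ K) = 3 := by
  have e : PZ K ≃ ZMod 3 := {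
    toFun := fun g => C.re (g : PG K).a
    invFun := fun a => ⟨{ r := 0, a := C.c a, b := 0, c := 0, ha := C.sc a, hc := by simp }, ⟨rfl, rfl, rfl⟩⟩
    left_inv := by
      rintro ⟨g, h1, h2, h3⟩
      apply Subtype.ext
      exact PG.ext h1.symm (C.c_re_of_fix g.ha) h2.symm h3.symm
    right_inv := fun a => C.re_c a }
  rw [Nat.card_congr e, Nat.card_zmod]

/-- `|S| = 729` -/
theorem card_PG (C : Cx K) : Nat.card (PG K) = 729 := by
  have e : PG K ≃ ZMod 3 × ZMod 3 × ZMod 3 × ZMod 3 × ZMod 3 × ZMod 3 := {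
    toFun := fun g => (C.re g.r, C.im g.r, C.re g.a, C.re g.b, C.im g.b, C.re g.c)
    invFun := fun t =>
      { r := C.c t.1 + C.c t.2.1 * C.i
        a := C.c t.2.2.1
        b := C.c t.2.2.2.1 + C.c t.2.2.2.2.1 * C.i
        c := C.c t.2.2.2.2.2
        ha := C.sc _
        hc := C.sc _ }
    left_inv := by
      intro g
      exact PG.ext (C.eq _) (C.c_re_of_fix g.ha) (C.eq _) (C.c_re_of_fix g.hc)
    right_inv := by
      rintro ⟨t1, t2, t3, t4, t5, t6⟩
      simp only [C.re_mk, C.im_mk, C.re_c] }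
  rw [Nat.card_congr e]
  simp only [Nat.card_prod, Nat.card_zmod]

theorem two_ne (C : Cx K) : (2 : K) ≠ 0 := by
  intro h
  have h1 : C.c 2 = C.c 0 := by rw [map_ofNat, map_zero, h]
  have h2 := C.c.injective h1
  revert h2
  decide

theorem i_ne (C : Cx K) : C.i ≠ 0 := by
  intro h
  have := C.ii
  rw [h, mul_zero] at this
  exact one_ne_zero (neg_eq_zero.1 this.symm)

/-- `|Inn(S)| = 243` -/
theorem card_inn (hK : HypK K p n) (C : Cx K) : Nat.card (MulAut.conj : PG K →* MulAut (PG K)).range = 243 := by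
  have := finite_PG hK
  have h1 : (MulAut.conj : PG K →* MulAut (PG K)).ker = PZ K := by
    rw [← center_eq (two_ne C) C.si (i_ne C)]
    ext g
    rw [MonoidHom.mem_ker, Subgroup.mem_center_iff]
    constructor
    · intro h x
      have h2 := congrArg (fun f : MulAut (PG K) => f x) h
      simp only [MulAut.conj_apply, MulAut.one_apply] at h2
      rw [mul_inv_eq_iff_eq_mul] at h2
      exact h2.symm
    · intro h
      ext1 x
      simp only [MulAut.conj_apply, MulAut.one_apply]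
      rw [mul_inv_eq_iff_eq_mul]
      exact (h x).symm
  have h2 := Subgroup.card_mul_index (MulAut.conj : PG K →* MulAut (PG K)).ker
  rw [Subgroup.index_ker, h1, card_PZ C, card_PG C] at h2
  omega

/-! ### the torus -/

theorem IsTorP.ext' {α β : MulAut (PG K)} {s l : K} {τ τ' : K ≃+* K} (h : IsTorP α s l τ) (h' : IsTorP β s l τ')
    (hτ : ∀ x, τ x = τ' x) : α = β := by
  apply MulEquiv.ext
  intro g
  apply PG.ext
  · rw [h.r, h'.r, hτ]
  · rw [h.a, h'.a, hτ]
  · rw [h.b, h'.b, hτ]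
  · rw [h.c, h'.c, hτ]

theorem l_cases (C : Cx K) {l : K} (h0 : l ≠ 0) (hl : star l = l) : l = 1 ∨ l = -1 := by
  have h1 := C.c_re_of_fix hl
  have h2 : ∀ a : ZMod 3, a = 0 ∨ a = 1 ∨ a = -1 := by decide
  rcases h2 (C.re l) with h | h | h
  · rw [h, map_zero] at h1
    exact absurd h1.symm h0
  · rw [h, map_one] at h1
    exact Or.inl h1.symm
  · rw [h, map_neg, map_one] at h1
    exact Or.inr h1.symm

/-- the sign -/
def sg (K : Type u) [Field K] (b : Bool) : K := if b then 1 else -1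

omit [StarRing K] in
theorem sg_ne (b : Bool) : sg K b ≠ 0 := by
  cases b
  · exact neg_ne_zero.2 one_ne_zero
  · exact one_ne_zero

theorem star_sg (b : Bool) : star (sg K b) = sg K b := by
  cases b
  · simp [sg]
  · simp [sg]

/-- the field automorphism -/
noncomputable def ta (K : Type u) [Field K] [StarRing K] (b : Bool) : K ≃+* K := if b then RingEquiv.refl K else starRingAut

theorem ta_true (x : K) : ta K true x = x := rfl
theorem ta_false (x : K) : ta K false x = star x := rfl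

/-- the parametrization of the torus -/
theorem exists_tor (hG : StGrp.{u}) (hK : HypK K p n) (t : Kˣ × Bool × Bool) :
    ∃ α : MulAut (PG K), IsTorP α (t.1 : K) (sg K t.2.1) (ta K t.2.2) :=
  (hG hK).2.2.1 _ _ _ t.1.ne_zero (sg_ne _) (star_sg _)

theorem card_TP (hG : StGrp.{u}) (hK : HypK K p n) (h3 : p ^ n = 3) : Nat.card (TP K) = 32 := by
  obtain ⟨C⟩ := exists_Cx hK h3
  choose f hf using exists_tor hG hK
  have hfm : ∀ t, f t ∈ TP K := fun t => Subgroup.subset_closure ⟨_, _, _, hf t⟩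
  let F : Kˣ × Bool × Bool → TP K := fun t => ⟨f t, hfm t⟩
  have hF : Function.Bijective F := by
    constructor
    · rintro ⟨s, l, t⟩ ⟨s', l', t'⟩ h
      have h1 : f (s, l, t) = f (s', l', t') := congrArg Subtype.val h
      have e1 := hf (s, l, t)
      have e2 := hf (s', l', t')
      rw [← h1] at e2
      have hs : (s : K) = s' := by
        have a1 := e1.r { r := 1, a := 0, b := 0, c := 0, ha := by simp, hc := by simp }
        have a2 := e2.r { r := 1, a := 0, b := 0, c := 0, ha := by simp, hc := by simp }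
        rw [a1] at a2
        simpa using a2
      have hl : sg K l = sg K l' := by
        have a1 := e1.c { r := 0, a := 0, b := 0, c := 1, ha := by simp, hc := by simp }
        have a2 := e2.c { r := 0, a := 0, b := 0, c := 1, ha := by simp, hc := by simp }
        rw [a1] at a2
        simpa using a2
      have ht : ta K t C.i = ta K t' C.i := by
        have a1 := e1.r { r := C.i, a := 0, b := 0, c := 0, ha := by simp, hc := by simp }
        have a2 := e2.r { r := C.i, a := 0, b := 0, c := 0, ha := by simp, hc := by simp }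
        rw [a1] at a2
        change (s : K) * ta K t C.i = (s' : K) * ta K t' C.i at a2
        rw [hs] at a2
        exact mul_left_cancel₀ s'.ne_zero a2
      have h2 := two_ne C
      have hsl : l = l' := by
        cases l <;> cases l' <;> simp only [sg, if_true, if_false, Bool.false_eq_true] at hl ⊢
        · exact absurd (by linear_combination -hl) h2
        · exact absurd (by linear_combination hl) h2
      have hst : t = t' := by
        cases t <;> cases t' <;> simp only [ta_true, ta_false, C.si] at ht ⊢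
        · exact absurd (mul_left_cancel₀ (i_ne C) (by linear_combination -ht)) h2
        · exact absurd (mul_left_cancel₀ (i_ne C) (by linear_combination ht)) h2
      rw [Units.ext hs, hsl, hst]
    · rintro ⟨α, hα⟩
      obtain ⟨s, l, τ, h⟩ := (hG hK).2.2.2.1 α hα
      obtain ⟨b, hb⟩ : ∃ b, sg K b = l := by
        rcases l_cases C h.nl h.sl with rfl | rfl
        · exact ⟨true, rfl⟩
        · exact ⟨false, rfl⟩
      obtain ⟨b', hb'⟩ : ∃ b', ∀ x, ta K b' x = τ x := by
        rcases C.aut_cases τ with h1 | h1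
        · exact ⟨true, fun x => by rw [ta_true, h1]⟩
        · exact ⟨false, fun x => by rw [ta_false, h1]⟩
      refine ⟨(Units.mk0 s h.ns, b, b'), Subtype.ext ?_⟩
      have h2 := hf (Units.mk0 s h.ns, b, b')
      subst hb
      exact IsTorP.ext' h2 h hb'
  rw [← Nat.card_congr (Equiv.ofBijective F hF), Nat.card_prod, Nat.card_prod, Nat.card_units, hK.card, h3]
  simp

/-- `|Inn · D| = 243 |D|` -/
theorem card_innD (hK : HypK K p n) (h3 : p ^ n = 3) {D : Subgroup (MulAut (PG K))} (hD : (Nat.card D).Coprime 3) :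
    Nat.card ((MulAut.conj : PG K →* MulAut (PG K)).range ⊔ D : Subgroup (MulAut (PG K))) = 243 * Nat.card D := by
  obtain ⟨C⟩ := exists_Cx hK h3
  have hfin := finite_aut hK
  have hn : (MulAut.conj : PG K →* MulAut (PG K)).range.Normal := by
    constructor
    rintro _ ⟨g, rfl⟩ α
    refine ⟨α g, ?_⟩
    apply MulEquiv.ext
    intro x
    simp only [MulAut.conj_apply, _root_.MulAut.mul_apply, _root_.MulAut.inv_apply, _root_.map_mul, _root_.MulEquiv.apply_symm_apply, _root_.map_inv]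
  rw [card_sup _ _ (by
    rw [card_inn hK C]
    exact (Nat.Coprime.pow_left 5 hD.symm)), card_inn hK C]

/-- if the whole torus is realised then `Aut_F(S) = Inn(S) TP` -/
theorem AF_eq_TP (hG : StGrp.{u}) (hPos : StPos.{u}) (hC : Cfsg.Agent.H756.PU.StCompl.{u}) (hK : HypK K p n)
    (h3 : p ^ n = 3) [Fact p.Prime] {F : FusionSystem (⊤ : Subgroup (PG K))} (hF : F.IsSaturated p) (hT : TP K ≤ AF F) :
    AF F = (MulAut.conj : PG K →* MulAut (PG K)).range ⊔ TP K ∧ Nat.card (AF F) = 243 * 32 := by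
  obtain rfl := p_eq hK.pp h3
  have hfin := finite_aut hK
  have hfin' := finite_PG hK
  obtain ⟨D, hD, hDF⟩ := hC F (hG hK).2.1 hF
  obtain ⟨θ, hθ⟩ := hPos hK D hD
  have h1 : Nat.card D ≤ 32 := by
    rw [← card_TP hG hK h3]
    have h2 : D.map (MulAut.conj θ).toMonoidHom ≤ TP K := by
      rintro _ ⟨d, hd, rfl⟩
      exact hθ d hd
    calc Nat.card D = Nat.card (D.map (MulAut.conj θ).toMonoidHom) :=
          Nat.card_congr (D.equivMapOfInjective _ (MulAut.conj θ).injective).toEquiv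
      _ ≤ Nat.card (TP K) := Subgroup.card_le_of_le h2
  have hle : (MulAut.conj : PG K →* MulAut (PG K)).range ⊔ TP K ≤ AF F := by
    rw [← hDF]
    rw [← hDF] at hT
    exact sup_le le_sup_left hT
  have hcT : Nat.card ((MulAut.conj : PG K →* MulAut (PG K)).range ⊔ TP K : Subgroup (MulAut (PG K))) = 243 * 32 := by
    rw [card_innD hK h3 (by rw [card_TP hG hK h3]; decide), card_TP hG hK h3]
  have hcA : Nat.card (AF F) = 243 * Nat.card D := by
    rw [← hDF, card_innD hK h3 hD]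
  have heq : (MulAut.conj : PG K →* MulAut (PG K)).range ⊔ TP K = AF F := by
    apply Subgroup.eq_of_le_of_card_ge hle
    rw [hcA, hcT]
    exact Nat.mul_le_mul_left 243 h1
  exact ⟨heq.symm, by rw [← heq, hcT]⟩

/-- the parabolic `Q` in a saturated system -/
theorem parQ (hG : StGrp.{u}) (hTI : StTI.{u}) (hK : HypK K p n) [Fact p.Prime]
    {F : FusionSystem (⊤ : Subgroup (PG K))} (hF : F.IsSaturated p) {D : Subgroup (MulAut (PG K))} (hD : D ≤ TP K)
    (hDc : (Nat.card D).Coprime p) (hAF : AF F = (MulAut.conj : PG K →* MulAut (PG K)).range ⊔ D)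
    (hnn : ¬ ∀ γ ∈ F.autGroup (PQ K), NormAut (⊤ : Subgroup (PG K)) γ) : ParP p (PQ K) (F.autGroup (PQ K)) D := by
  have hfin := finite_PG hK
  have hS : IsPGroup p (⊤ : Subgroup (PG K)) := (hG hK).2.1
  obtain ⟨h1, h2⟩ := hTI hK
  obtain ⟨hC, -, hchar⟩ := h2 (PQ K) (Or.inr rfl)
  have hn := Cfsg.Agent.H756.PU.top_le_normalizer_of_char hchar
  have hind : autInducedBy ⊤ (PQ K) ≤ F.autGroup (PQ K) := Cfsg.Agent.H802.autInducedBy_le_autGroup F le_top
  have hsyl := Cfsg.Agent.H756.PU.syl_of_normal hS hF hn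
  refine ⟨hind, hsyl, h1 _ hind hsyl, hnn, hD, hDc, ?_, ?_⟩
  · intro d hd γ hγ
    have h1 : d ∈ AF F := by
      rw [hAF]
      exact Subgroup.mem_sup_right hd
    exact Cfsg.Agent.H756.PU.res_mem h1 hγ
  · intro γ hγ hN
    obtain ⟨β, hβ, he⟩ := Cfsg.Agent.H756.PU.ext_mem hS hF hn hγ hN
    rw [hAF] at hβ
    obtain ⟨x, d, hd, rfl⟩ := Cfsg.Agent.H756.PU.mem_range_sup hβ
    exact ⟨x, d, hd, fun e => he e⟩

end

end Cfsg.Agent.H815.P4
end

-- part: H264/U4/Mod
section
/-!
# S5210, `q = 3`: the model `M6` of `PG K`, `|K| = 9`, over `F₃` and its embeddings in `Co0` (helper264)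

`K = F₃(i)`, `r = r0 + r1 i`, `b = b0 + b1 i`; the product is exactly that of `H776.P4.PG`.
-/

set_option autoImplicit false
set_option maxRecDepth 20000
set_option linter.style.longLine false

namespace Cfsg.Agent.H264.U4

open Cfsg Cfsg.Agent.LThreeCo1.Ev Cfsg.Agent.SporadicStructure.Co0Matrix Cfsg.Agent.CoOneType.CoEval
open Cfsg.Agent.H776.Co Cfsg.Agent.H956.Co1P

/-- The model. -/
@[ext] structure M6 where
  r0 : ZMod 3
  r1 : ZMod 3
  a : ZMod 3
  b0 : ZMod 3
  b1 : ZMod 3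
  c : ZMod 3
deriving DecidableEq

namespace M6

instance : Mul M6 := ⟨fun x y =>
  ⟨x.r0 + y.r0, x.r1 + y.r1, x.a + y.a + 2 * (x.r0 * y.b0 + x.r1 * y.b1) + (x.r0 ^ 2 + x.r1 ^ 2) * y.c,
    x.b0 + y.b0 + x.r0 * y.c, x.b1 + y.b1 + x.r1 * y.c, x.c + y.c⟩⟩
instance : One M6 := ⟨⟨0, 0, 0, 0, 0, 0⟩⟩
instance : Inv M6 := ⟨fun x =>
  ⟨-x.r0, -x.r1, -x.a + 2 * (x.r0 * x.b0 + x.r1 * x.b1) - (x.r0 ^ 2 + x.r1 ^ 2) * x.c,
    -x.b0 + x.r0 * x.c, -x.b1 + x.r1 * x.c, -x.c⟩⟩

@[simp] theorem mul_r0 (x y : M6) : (x * y).r0 = x.r0 + y.r0 := rfl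
@[simp] theorem mul_r1 (x y : M6) : (x * y).r1 = x.r1 + y.r1 := rfl
@[simp] theorem mul_a (x y : M6) : (x * y).a =
    x.a + y.a + 2 * (x.r0 * y.b0 + x.r1 * y.b1) + (x.r0 ^ 2 + x.r1 ^ 2) * y.c := rfl
@[simp] theorem mul_b0 (x y : M6) : (x * y).b0 = x.b0 + y.b0 + x.r0 * y.c := rfl
@[simp] theorem mul_b1 (x y : M6) : (x * y).b1 = x.b1 + y.b1 + x.r1 * y.c := rfl
@[simp] theorem mul_c (x y : M6) : (x * y).c = x.c + y.c := rfl
@[simp] theorem one_r0 : (1 : M6).r0 = 0 := rfl
@[simp] theorem one_r1 : (1 : M6).r1 = 0 := rfl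
@[simp] theorem one_a : (1 : M6).a = 0 := rfl
@[simp] theorem one_b0 : (1 : M6).b0 = 0 := rfl
@[simp] theorem one_b1 : (1 : M6).b1 = 0 := rfl
@[simp] theorem one_c : (1 : M6).c = 0 := rfl
@[simp] theorem inv_r0 (x : M6) : (x⁻¹).r0 = -x.r0 := rfl
@[simp] theorem inv_r1 (x : M6) : (x⁻¹).r1 = -x.r1 := rfl
@[simp] theorem inv_a (x : M6) : (x⁻¹).a =
    -x.a + 2 * (x.r0 * x.b0 + x.r1 * x.b1) - (x.r0 ^ 2 + x.r1 ^ 2) * x.c := rfl
@[simp] theorem inv_b0 (x : M6) : (x⁻¹).b0 = -x.b0 + x.r0 * x.c := rfl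
@[simp] theorem inv_b1 (x : M6) : (x⁻¹).b1 = -x.b1 + x.r1 * x.c := rfl
@[simp] theorem inv_c (x : M6) : (x⁻¹).c = -x.c := rfl

instance : Group M6 where
  mul_assoc x y z := by ext <;> simp only [_root_.Cfsg.Agent.H264.U4.M6.mul_r0, _root_.Cfsg.Agent.H264.U4.M6.mul_r1, _root_.Cfsg.Agent.H264.U4.M6.mul_a, _root_.Cfsg.Agent.H264.U4.M6.mul_b0, _root_.Cfsg.Agent.H264.U4.M6.mul_b1, _root_.Cfsg.Agent.H264.U4.M6.mul_c] <;> ring
  one_mul x := by ext <;> simp
  mul_one x := by ext <;> simp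
  inv_mul_cancel x := by ext <;> simp only [_root_.Cfsg.Agent.H264.U4.M6.mul_r0, _root_.Cfsg.Agent.H264.U4.M6.inv_r0, _root_.neg_add_cancel, _root_.Cfsg.Agent.H264.U4.M6.one_r0, _root_.Cfsg.Agent.H264.U4.M6.mul_r1, _root_.Cfsg.Agent.H264.U4.M6.inv_r1, _root_.Cfsg.Agent.H264.U4.M6.one_r1, _root_.Cfsg.Agent.H264.U4.M6.mul_a, _root_.Cfsg.Agent.H264.U4.M6.inv_a, _root_.neg_mul, _root_.even_two, _root_.Even.neg_pow, _root_.Cfsg.Agent.H264.U4.M6.one_a, _root_.Cfsg.Agent.H264.U4.M6.mul_b0, _root_.Cfsg.Agent.H264.U4.M6.inv_b0, _root_.neg_add_cancel_comm, _root_.add_neg_cancel, _root_.Cfsg.Agent.H264.U4.M6.one_b0, _root_.Cfsg.Agent.H264.U4.M6.mul_b1, _root_.Cfsg.Agent.H264.U4.M6.inv_b1, _root_.Cfsg.Agent.H264.U4.M6.one_b1, _root_.Cfsg.Agent.H264.U4.M6.mul_c, _root_.Cfsg.Agent.H264.U4.M6.inv_c, _root_.Cfsg.Agent.H264.U4.M6.one_c]; ring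

/-- coordinates -/
def equivTuple : M6 ≃ (ZMod 3 × ZMod 3 × ZMod 3 × ZMod 3 × ZMod 3 × ZMod 3) where
  toFun x := (x.r0, x.r1, x.a, x.b0, x.b1, x.c)
  invFun t := ⟨t.1, t.2.1, t.2.2.1, t.2.2.2.1, t.2.2.2.2.1, t.2.2.2.2.2⟩
  left_inv _ := rfl
  right_inv _ := rfl

instance : Fintype M6 := Fintype.ofEquiv _ equivTuple.symm

theorem card_M6 : Nat.card M6 = 3 ^ 6 := by
  rw [Nat.card_congr equivTuple]
  simp only [Nat.card_prod, Nat.card_zmod]
  norm_num

/-- the root elements: `0 = r0`, `1 = r1`, `2 = a`, `3 = b0`, `4 = b1`, `5 = c` -/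
def rt (i : Fin 6) (t : ZMod 3) : M6 :=
  match i with
  | 0 => ⟨t, 0, 0, 0, 0, 0⟩
  | 1 => ⟨0, t, 0, 0, 0, 0⟩
  | 2 => ⟨0, 0, t, 0, 0, 0⟩
  | 3 => ⟨0, 0, 0, t, 0, 0⟩
  | 4 => ⟨0, 0, 0, 0, t, 0⟩
  | 5 => ⟨0, 0, 0, 0, 0, t⟩

/-- the coordinates -/
def co (i : Fin 6) (x : M6) : ZMod 3 :=
  match i with
  | 0 => x.r0
  | 1 => x.r1
  | 2 => x.a
  | 3 => x.b0
  | 4 => x.b1
  | 5 => x.c

theorem rt_zero (i : Fin 6) : rt i 0 = 1 := by fin_cases i <;> rfl

theorem rt_two (i : Fin 6) : rt i 2 = rt i 1 * rt i 1 := by (revert i; decide +kernel)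

theorem rt_mem {R : Subgroup M6} {i : Fin 6} (t : ZMod 3) (h : t = 0 ∨ rt i 1 ∈ R) : rt i t ∈ R := by
  rcases h with rfl | h
  · rw [rt_zero]; exact R.one_mem
  · fin_cases t
    · show rt i 0 ∈ R
      rw [rt_zero]; exact R.one_mem
    · exact h
    · show rt i 2 ∈ R
      rw [rt_two]; exact R.mul_mem h h

theorem decomp (x : M6) : x = rt 2 x.a * rt 3 x.b0 * rt 4 x.b1 * rt 5 x.c * rt 1 x.r1 * rt 0 x.r0 := by
  ext <;> simp [rt]

theorem mem_of_rt {R : Subgroup M6} {x : M6} (h : ∀ i, co i x = 0 ∨ rt i 1 ∈ R) : x ∈ R := by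
  rw [decomp x]
  exact R.mul_mem (R.mul_mem (R.mul_mem (R.mul_mem (R.mul_mem (rt_mem _ (h 2)) (rt_mem _ (h 3))) (rt_mem _ (h 4)))
    (rt_mem _ (h 5))) (rt_mem _ (h 1))) (rt_mem _ (h 0))

variable {G : Type*} [Group G]

/-- the subgroup on which `f` is induced by `g` -/
def agr (φ : M6 →* G) (R : Subgroup M6) (f : M6 → M6) (hf : ∀ x ∈ R, ∀ y ∈ R, f (x * y) = f x * f y) (g : G) : Subgroup M6 where
  carrier := {x | x ∈ R ∧ φ (f x) = g * φ x * g⁻¹}
  one_mem' := by
    refine ⟨R.one_mem, ?_⟩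
    have h1 : f 1 = 1 := by
      have h := hf 1 R.one_mem 1 R.one_mem
      rw [mul_one] at h
      exact mul_eq_left.mp h.symm
    rw [h1, map_one]; group
  mul_mem' := by
    rintro x y ⟨hx, hx'⟩ ⟨hy, hy'⟩
    refine ⟨R.mul_mem hx hy, ?_⟩
    rw [hf x hx y hy, map_mul, map_mul, hx', hy']
    group
  inv_mem' := by
    rintro x ⟨hx, hx'⟩
    refine ⟨R.inv_mem hx, ?_⟩
    have h1 : f 1 = 1 := by
      have h := hf 1 R.one_mem 1 R.one_mem
      rw [mul_one] at h
      exact mul_eq_left.mp h.symm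
    have h2 : f x⁻¹ = (f x)⁻¹ := by
      have h := hf x⁻¹ (R.inv_mem hx) x hx
      rw [inv_mul_cancel, h1] at h
      exact eq_inv_of_mul_eq_one_left h.symm
    rw [h2, map_inv, hx', map_inv]
    group

theorem agree {φ : M6 →* G} {R : Subgroup M6} {f : M6 → M6} (hf : ∀ x ∈ R, ∀ y ∈ R, f (x * y) = f x * f y) (g : G)
    (hg : ∀ i, rt i 1 ∈ R → φ (f (rt i 1)) = g * φ (rt i 1) * g⁻¹) {x : M6}
    (h : ∀ i, co i x = 0 ∨ rt i 1 ∈ R) : φ (f x) = g * φ x * g⁻¹ := by
  have : x ∈ agr φ R f hf g := mem_of_rt fun i => (h i).imp_right fun h => ⟨h, hg i h⟩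
  exact this.2

/-- the embedding in the Sylow 3-subgroup of `Co₁` -/
def io : M6 →* P where
  toFun x := ⟨x.r0, 0, x.r1, x.a, x.b0, x.c, x.b1, 0, x.c⟩
  map_one' := rfl
  map_mul' x y := by ext <;> simp only [_root_.Cfsg.Agent.H264.U4.M6.mul_r0, _root_.Cfsg.Agent.H776.Co.P.mul_a, _root_.Cfsg.Agent.H776.Co.P.mul_b, _root_.add_zero, _root_.Cfsg.Agent.H264.U4.M6.mul_r1, _root_.Cfsg.Agent.H776.Co.P.mul_c, _root_.MulZeroClass.mul_zero, _root_.Cfsg.Agent.H264.U4.M6.mul_a, _root_.Cfsg.Agent.H776.Co.P.mul_m11, _root_.Cfsg.Agent.H264.U4.M6.mul_b0, _root_.Cfsg.Agent.H776.Co.P.mul_m12, _root_.MulZeroClass.zero_mul, _root_.Cfsg.Agent.H264.U4.M6.mul_c, _root_.Cfsg.Agent.H776.Co.P.mul_m22, _root_.ne_eq, _root_.OfNat.ofNat_ne_zero, _root_.not_false_eq_true, _root_.zero_pow, _root_.Cfsg.Agent.H264.U4.M6.mul_b1, _root_.Cfsg.Agent.H776.Co.P.mul_m13, _root_.Cfsg.Agent.H776.Co.P.mul_m23, _root_.Cfsg.Agent.H776.Co.P.mul_m33] <;> ring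

@[simp] theorem io_apply (x : M6) : io x = ⟨x.r0, 0, x.r1, x.a, x.b0, x.c, x.b1, 0, x.c⟩ := rfl

theorem io_injective : Function.Injective io := by
  intro x y h
  simp only [io_apply, P.mk.injEq] at h
  ext
  · exact h.1
  · exact h.2.2.1
  · exact h.2.2.2.1
  · exact h.2.2.2.2.1
  · exact h.2.2.2.2.2.2.1
  · exact h.2.2.2.2.2.1

theorem three : (3 : ZMod 3) = 0 := by decide

/-- `tor(s, l, τ)`: `s = s0 + s1 i`, `l = ±1`, `τ = 1` (`g = 1`) or the conjugation (`g = -1`) -/
def tor (s0 s1 l g : ZMod 3) (x : M6) : M6 :=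
  ⟨s0 * x.r0 - s1 * (g * x.r1), s0 * (g * x.r1) + s1 * x.r0, (s0 ^ 2 + s1 ^ 2) * l * x.a,
    l * (s0 * x.b0 - s1 * (g * x.b1)), l * (s0 * (g * x.b1) + s1 * x.b0), l * x.c⟩

theorem tor_mul {s0 s1 l g : ZMod 3} (hg : g ^ 2 = 1) (x y : M6) :
    tor s0 s1 l g (x * y) = tor s0 s1 l g x * tor s0 s1 l g y := by
  ext <;> simp only [tor, mul_r0, mul_r1, mul_a, mul_b0, mul_b1, mul_c]
  · ring
  · ring
  · linear_combination (-2 * l * s0 ^ 2 * x.r1 * y.b1 - 2 * l * s1 ^ 2 * x.r1 * y.b1 - l * s0 ^ 2 * x.r1 ^ 2 * y.c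
      - l * s1 ^ 2 * x.r1 ^ 2 * y.c) * hg
  · ring
  · ring
  · ring

/-- the twist `θ_{s c} ∘ ε_κ`, `κ = k0 + k1 i` -/
def be (s k0 k1 : ZMod 3) : M6 →* M6 where
  toFun x := ⟨x.r0, x.r1, x.a + s * x.c - 2 * (k0 * (x.r0 ^ 2 - x.r1 ^ 2) + 2 * k1 * (x.r0 * x.r1)),
    x.b0 + (k0 * x.r0 + k1 * x.r1), x.b1 + (k1 * x.r0 - k0 * x.r1), x.c⟩
  map_one' := by ext <;> simp
  map_mul' x y := by
    ext <;> simp only [mul_r0, mul_r1, mul_a, mul_b0, mul_b1, mul_c]
    · linear_combination (-2 * (k0 * (x.r0 * y.r0 - x.r1 * y.r1) + k1 * (x.r0 * y.r1 + x.r1 * y.r0))) * three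
    · ring
    · ring

theorem be_apply (s k0 k1 : ZMod 3) (x : M6) : be s k0 k1 x =
    ⟨x.r0, x.r1, x.a + s * x.c - 2 * (k0 * (x.r0 ^ 2 - x.r1 ^ 2) + 2 * k1 * (x.r0 * x.r1)),
    x.b0 + (k0 * x.r0 + k1 * x.r1), x.b1 + (k1 * x.r0 - k0 * x.r1), x.c⟩ := rfl

theorem be_injective (s k0 k1 : ZMod 3) : Function.Injective (be s k0 k1) := by
  intro x y h
  simp only [be_apply, M6.mk.injEq] at h
  obtain ⟨h1, h2, h3, h4, h5, h6⟩ := h
  rw [h1, h2, h6] at h3
  rw [h1, h2] at h4 h5
  ext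
  · exact h1
  · exact h2
  · linear_combination h3
  · linear_combination h4
  · linear_combination h5
  · exact h6

/-- `ε_κ` -/
def ep (k0 k1 : ZMod 3) (x : M6) : M6 := be 0 k0 k1 x

/-- the Weyl element on `V` (`r = 0`) -/
def wv (x : M6) : M6 := ⟨0, 0, x.c, -x.b0, x.b1, x.a⟩

/-- the Weyl element on `Q` (`c = 0`) -/
def wq (x : M6) : M6 := ⟨x.b0, x.b1, x.a - 2 * (x.r0 * x.b0 + x.r1 * x.b1), -x.r0, -x.r1, x.c⟩

/-- `W_κ = ε_κ W ε_κ⁻¹` -/
def wk (k0 k1 : ZMod 3) (x : M6) : M6 := ep k0 k1 (wq (ep (-k0) (-k1) x))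

/-- `V` -/
def MV : Subgroup M6 where
  carrier := {x | x.r0 = 0 ∧ x.r1 = 0}
  one_mem' := ⟨rfl, rfl⟩
  mul_mem' := by rintro x y ⟨h1, h2⟩ ⟨k1, k2⟩; exact ⟨by simp [h1, k1], by simp [h2, k2]⟩
  inv_mem' := by rintro x ⟨h1, h2⟩; exact ⟨by simp [h1], by simp [h2]⟩

/-- `Q` -/
def MQ : Subgroup M6 where
  carrier := {x | x.c = 0}
  one_mem' := rfl
  mul_mem' := by
    intro x y h k
    have h' : x.c = 0 := h
    have k' : y.c = 0 := k
    show (x * y).c = 0
    simp [h', k']
  inv_mem' := by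
    intro x h
    have h' : x.c = 0 := h
    show (x⁻¹).c = 0
    simp [h']

theorem wv_mul {x y : M6} (hx : x ∈ MV) (hy : y ∈ MV) : wv (x * y) = wv x * wv y := by
  obtain ⟨h1, h2⟩ := hx
  obtain ⟨k1, k2⟩ := hy
  ext <;> simp [wv, h1, h2] <;> ring

theorem wq_mul {x y : M6} (hx : x ∈ MQ) (hy : y ∈ MQ) : wq (x * y) = wq x * wq y := by
  have h : x.c = 0 := hx
  have k : y.c = 0 := hy
  ext <;> simp only [wq, mul_r0, mul_r1, mul_a, mul_b0, mul_b1, mul_c, h, k]
  · ring
  · ring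
  · ring
  · ring
  · ring

theorem wk_mul (k0 k1 : ZMod 3) {x y : M6} (hx : x ∈ MQ) (hy : y ∈ MQ) : wk k0 k1 (x * y) = wk k0 k1 x * wk k0 k1 y := by
  unfold wk ep
  rw [map_mul, wq_mul (show (be 0 (-k0) (-k1) x).c = 0 from hx) (show (be 0 (-k0) (-k1) y).c = 0 from hy), map_mul]

end M6

open M6

/-- the embedding twisted by `be s k0 k1` -/
noncomputable def ph (s k0 k1 : ZMod 3) : M6 →* Co0 := (dat.hom.comp io).comp (be s k0 k1)

theorem ph_injective (s k0 k1 : ZMod 3) : Function.Injective (ph s k0 k1) :=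
  dat.injective.comp (io_injective.comp (be_injective s k0 k1))

/-- the embedding for `Co₂`, `U₆(2)`, `U₆(2):2` -/
noncomputable abbrev ph1 : M6 →* Co0 := ph 2 2 0

/-- the embedding for `McL`, `McL:2` -/
noncomputable abbrev ph2 : M6 →* Co0 := ph 2 1 1

/-- the word of an element of `M6` in the elements `e 1, …, e 9` of `Co0` -/
def wd (s k0 k1 : ZMod 3) (x : M6) : List ℕ := wp (io (be s k0 k1 x))

theorem wd_prod (s k0 k1 : ZMod 3) (x : M6) : ((wd s k0 k1 x).map e).prod = ph s k0 k1 x := by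
  unfold wd
  rw [wp_prod]
  rfl

theorem wp_pos (p : P) : ∀ i ∈ wp p, i ≠ 0 := by
  intro i hi
  simp only [wp, H956.Co1P.wv, List.mem_append, List.mem_replicate] at hi
  omega

/-- `M` with the new matrix `A` at `0` -/
def MX (A : List (List ℤ)) : ℕ → List (List ℤ)
  | 0 => A
  | i + 1 => M (i + 1)

/-- `e` with the new element at `0` -/
noncomputable def eX {A : List (List ℤ)} (h : Ok A (tr A)) : ℕ → Co0
  | 0 => _root_.Cfsg.Agent.SporadicStructure.Co0Matrix.mk h
  | i + 1 => e (i + 1)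

theorem repX {A : List (List ℤ)} (h : Ok A (tr A)) : ∀ i, _root_.Cfsg.Agent.CoOneType.CoEval.Rep (eX h i) (MX A i)
  | 0 => rep_mk h
  | i + 1 => rep (i + 1)

theorem map_eX {A : List (List ℤ)} (h : Ok A (tr A)) {w : List ℕ} (hw : ∀ i ∈ w, i ≠ 0) : w.map (eX h) = w.map e := by
  apply List.map_congr_left
  intro i hi
  obtain ⟨j, rfl⟩ := Nat.exists_eq_succ_of_ne_zero (hw i hi)
  rfl

/-- the check of the action of the matrix `A` on the generator `rt i 1` -/
def chk (A : List (List ℤ)) (s k0 k1 : ZMod 3) (f : M6 → M6) (i : Fin 6) : Bool :=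
  eqB (MX A) (0 :: wd s k0 k1 (rt i 1)) (wd s k0 k1 (f (rt i 1)) ++ [0])

theorem chk_spec {A : List (List ℤ)} (h : Ok A (tr A)) {s k0 k1 : ZMod 3} {f : M6 → M6} {i : Fin 6}
    (hc : chk A s k0 k1 f i = true) :
    ph s k0 k1 (f (rt i 1)) = _root_.Cfsg.Agent.SporadicStructure.Co0Matrix.mk h * ph s k0 k1 (rt i 1) * (mk h)⁻¹ := by
  have h1 := eq_of_eqB (repX h) hc
  rw [List.map_append, List.prod_append, List.map_cons, List.prod_cons, map_eX h (w := wd s k0 k1 (rt i 1)) (wp_pos _),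
    map_eX h (w := wd s k0 k1 (f (rt i 1))) (wp_pos _),
    wd_prod, wd_prod] at h1
  rw [eq_mul_inv_iff_mul_eq]
  have h2 : ([0].map (eX h)).prod = _root_.Cfsg.Agent.SporadicStructure.Co0Matrix.mk h := by simp [eX]
  rw [h2] at h1
  exact h1.symm

/-- the action of `mk h` on a lattice vector -/
theorem act_eq {A : List (List ℤ)} (h : Ok A (tr A)) {v w : leechLattice} {l l' : List ℤ} (hl : l.length ≤ 24)
    (hv : (v : GolayPt → ℤ) = _root_.Cfsg.Agent.SporadicStructure.Co0Matrix.vec l) (hw : (w : GolayPt → ℤ) = _root_.Cfsg.Agent.SporadicStructure.Co0Matrix.vec l') (hA : apZ A l = l') :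
    (_root_.Cfsg.Agent.SporadicStructure.Co0Matrix.mk h).1 v = w := by
  apply Subtype.ext
  rw [hw, ← hA, apZ_eq]
  exact (rep_mk h).apply hl hv

end Cfsg.Agent.H264.U4
end

private theorem dce_0e8ad270f98b : _root_.True := by
  try have : _root_.True := by simp only [_root_.Cfsg.Agent.H264.U4.M6.rt.eq_4]
  try have : _root_.True := by simp only [_root_.Cfsg.Agent.H815.P4.sg.eq_1]
  try have : _root_.True := by simp only [_root_.Cfsg.Agent.H264.U4.M6.wq.eq_1]
  try have : _root_.True := by simp only [_root_.Cfsg.Agent.H264.U4.M6.rt.eq_2]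
  try have : _root_.True := by simp only [_root_.Cfsg.Agent.H264.U4.M6.tor.eq_1]
  try have : _root_.True := by simp only [_root_.Cfsg.Agent.H264.U4.eX.eq_1]
  try have : _root_.True := by simp only [_root_.Cfsg.Agent.H264.U4.M6.rt.eq_6]
  try have : _root_.True := by simp only [_root_.Cfsg.Agent.SporadicStructure.Co0Matrix.mk.congr_simp]
  try have : _root_.True := by simp only [_root_.Cfsg.Agent.H264.U4.eX.congr_simp]
  try have : _root_.True := by simp only [_root_.Cfsg.Agent.H956.Co1P.wp.eq_1]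
  try have : _root_.True := by simp only [_root_.Cfsg.Agent.H264.U4.M6.rt.eq_1]
  try have : _root_.True := by simp only [_root_.Cfsg.Agent.H264.U4.M6.wv.eq_1]
  try have : _root_.True := by simp only [_root_.Cfsg.Agent.H956.Co1P.wv.eq_1]
  try have : _root_.True := by simp only [_root_.Cfsg.Agent.H264.U4.M6.rt.eq_3]
  try have : _root_.True := by simp only [_root_.Cfsg.Agent.H264.U4.eX.eq_2]
  try have : _root_.True := by simp only [_root_.Cfsg.Agent.H776.P4.PG.mk.congr_simp]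
  try have : _root_.True := by simp only [_root_.Cfsg.Agent.H264.U4.M6.rt.eq_5]
  exact _root_.True.intro
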