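import Cfsg.Agent.H815.P4.Base_mg
import Cfsg.Agent.LThreeCo1.Ev
import Cfsg.Agent.SporadicStructure.Co2RankThree
import Cfsg.Agent.LThreeCo1.QEv
import Cfsg.Agent.Prune
set_option linter.all false
open scoped Cfsg.Agent.FastGrp

/-- decoders of the packed data (elaboration time only) -/
private noncomputable def pk61d (b S i : Nat) : Nat := Nat.mod (Nat.shiftRight S (Nat.mul b i)) (Nat.shiftLeft (nat_lit 1) b)
private noncomputable def pk61c {α : Type} (t : Nat) (a : α) (f : Nat → α) : α := Nat.rec a (fun k _ => f k) t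
private noncomputable def pk61f {α : Type} (t : Nat) (f : Nat → α) : α := Nat.rec (f Nat.zero) (fun k _ => f (Nat.succ k)) t
private noncomputable def pk61l {α : Type} (f : Nat → α) (s e : Nat) (tl : List α) : List α :=
  pk61f e fun e => Nat.rec tl (fun k ih => List.cons (pk61f (Nat.sub e (Nat.succ k)) f) ih) (Nat.sub e s)
private noncomputable def pk61o {α : Type} (O : (n : Nat) → OfNat α n → α) (I : (n : Nat) → OfNat α n) (t : Nat) : α :=
  pk61c t (O (nat_lit 0) (I (nat_lit 0))) fun k => O (Nat.succ k) (I (Nat.succ k))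
private noncomputable def pk61y (O : (n : Nat) → OfNat Int n → Int) (I : (n : Nat) → OfNat Int n) (G : Int → Int) (t : Nat) : Int := pk61f t fun t =>
  pk61c (Nat.mod t (nat_lit 2)) (pk61o O I (Nat.div t (nat_lit 2))) fun _ => G (pk61o O I (Nat.succ (Nat.div t (nat_lit 2))))

private noncomputable def lq26e7e9e862 {T : Sort _} (f :
    type_of% (@_root_.List.cons.{0}) →
    type_of% (@_root_.List.nil.{0}) → T) : T :=
  f (@_root_.List.cons.{0}) (@_root_.List.nil.{0})

-- part: H815/P4/Iso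
section
/-!
# S5210, `q = 3` (3P): the isomorphism of `PG K` with the model `M6` over `ZMod 3` (helper815)
-/

set_option autoImplicit false

namespace Cfsg.Agent.H815.P4

open Cfsg Cfsg.FusionSystem Cfsg.Agent.H776.P4
open Cfsg.Agent.H756.PU (HypK Ess Inv Com NormAut TIAut AF)
open Cfsg.Agent.H264.U4

universe u v

section
variable {K : Type u} [Field K] [StarRing K]

/-- the isomorphism -/
def iso (C : Cx K) : PG K ≃* M6 where
  toFun g := ⟨C.re g.r, C.im g.r, C.re g.a, C.re g.b, C.im g.b, C.re g.c⟩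
  invFun x :=
    { r := C.c x.r0 + C.c x.r1 * C.i
      a := C.c x.a
      b := C.c x.b0 + C.c x.b1 * C.i
      c := C.c x.c
      ha := C.sc _
      hc := C.sc _ }
  left_inv g := PG.ext (C.eq _) (C.c_re_of_fix g.ha) (C.eq _) (C.c_re_of_fix g.hc)
  right_inv x := by
    ext <;> simp only [C.re_mk, C.im_mk, C.re_c]
  map_mul' x y := by
    have hy := C.im_of_fix y.hc
    ext <;> simp only [PG.mul_r, PG.mul_a, PG.mul_b, PG.mul_c, C.re_add, C.im_add, C.re_mul, C.im_mul, C.re_star,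
      C.im_star, M6.mul_r0, M6.mul_r1, M6.mul_a, M6.mul_b0, M6.mul_b1, M6.mul_c, hy]
    · ring
    · ring
    · ring

theorem iso_r0 (C : Cx K) (g : PG K) : (iso C g).r0 = C.re g.r := rfl
theorem iso_r1 (C : Cx K) (g : PG K) : (iso C g).r1 = C.im g.r := rfl
theorem iso_a (C : Cx K) (g : PG K) : (iso C g).a = C.re g.a := rfl
theorem iso_b0 (C : Cx K) (g : PG K) : (iso C g).b0 = C.re g.b := rfl
theorem iso_b1 (C : Cx K) (g : PG K) : (iso C g).b1 = C.im g.b := rfl
theorem iso_c (C : Cx K) (g : PG K) : (iso C g).c = C.re g.c := rfl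

/-- the torus, without field automorphism -/
theorem iso_tor (C : Cx K) {α : MulAut (PG K)} {s l : K} {τ : K ≃+* K} (h : IsTorP α s l τ) (hτ : ∀ x, τ x = x)
    (g : PG K) : iso C (α g) = M6.tor (C.re s) (C.im s) (C.re l) 1 (iso C g) := by
  have hl := C.im_of_fix h.sl
  have ha := C.im_of_fix g.ha
  have hc := C.im_of_fix g.hc
  ext <;> simp only [iso_r0, iso_r1, iso_a, iso_b0, iso_b1, iso_c, h.r, h.a, h.b, h.c, hτ, C.re_mul, C.im_mul,
    C.re_star, C.im_star, hl, ha, hc, M6.tor] <;> ring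

/-- the torus, with field automorphism -/
theorem iso_tor' (C : Cx K) {α : MulAut (PG K)} {s l : K} {τ : K ≃+* K} (h : IsTorP α s l τ) (hτ : ∀ x, τ x = star x)
    (g : PG K) : iso C (α g) = M6.tor (C.re s) (C.im s) (C.re l) (-1) (iso C g) := by
  have hl := C.im_of_fix h.sl
  have ha := C.im_of_fix g.ha
  have hc := C.im_of_fix g.hc
  ext <;> simp only [iso_r0, iso_r1, iso_a, iso_b0, iso_b1, iso_c, h.r, h.a, h.b, h.c, hτ, C.re_mul, C.im_mul,
    C.re_star, C.im_star, hl, ha, hc, M6.tor] <;> ring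

theorem iso_wv (C : Cx K) {γ : MulAut (PV K)} (h : IsWV γ) (e : PV K) :
    iso C ((γ e : PV K) : PG K) = M6.wv (iso C (e : PG K)) := by
  have h1 : ((γ e : PV K) : PG K).r = 0 := (γ e).2
  ext <;> simp only [iso_r0, iso_r1, iso_a, iso_b0, iso_b1, iso_c, h.a, h.b, h.c, h1, C.re_neg, C.im_neg,
    C.re_star, C.im_star, C.re_zero, C.im_zero, M6.wv, neg_neg]

theorem iso_wq (C : Cx K) {γ : MulAut (PQ K)} (h : IsWQ γ) (e : PQ K) :
    iso C ((γ e : PQ K) : PG K) = M6.wq (iso C (e : PG K)) := by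
  have h1 : ((γ e : PQ K) : PG K).c = 0 := (γ e).2
  have h2 : (e : PG K).c = 0 := e.2
  ext <;> simp only [iso_r0, iso_r1, iso_a, iso_b0, iso_b1, iso_c, h.r, h.a, h.b, h1, h2, C.re_neg, C.im_neg,
    C.re_star, C.im_star, C.re_zero, M6.wq, C.re_sub, C.re_add, C.re_mul]
  ring

theorem iso_ep (C : Cx K) {κ : K} {ε : MulAut (PG K)} (h : IsEp κ ε) (g : PG K) :
    iso C (ε g) = M6.ep (C.re κ) (C.im κ) (iso C g) := by
  ext <;> simp only [iso_r0, iso_r1, iso_a, iso_b0, iso_b1, iso_c, h.r, h.a, h.b, h.c, C.re_neg, C.im_neg,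
    C.re_star, C.im_star, C.re_zero, C.im_zero, M6.ep, M6.be_apply, C.re_sub, C.re_add, C.re_mul, C.im_mul, C.im_add] <;> ring

theorem ep_ep (k0 k1 : ZMod 3) (x : M6) : M6.ep (-k0) (-k1) (M6.ep k0 k1 x) = x := by
  ext <;> simp only [M6.ep, M6.be_apply] <;> ring

theorem iso_ep_inv (C : Cx K) {κ : K} {ε : MulAut (PG K)} (h : IsEp κ ε) (g : PG K) :
    iso C (ε⁻¹ g) = M6.ep (-C.re κ) (-C.im κ) (iso C g) := by
  have h1 := iso_ep C h (ε⁻¹ g)
  rw [MulAut.apply_inv_self] at h1
  rw [h1, ep_ep]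

/-- `W_κ` -/
theorem iso_wk (C : Cx K) {κ : K} {γ : MulAut (PQ K)} (h : IsWk κ γ) (e : PQ K) :
    iso C ((γ e : PQ K) : PG K) = M6.wk (C.re κ) (C.im κ) (iso C (e : PG K)) := by
  obtain ⟨ε, n, t, hε, hn, ht, rfl⟩ := h
  have ht' : ∀ e : PQ K, ((t⁻¹ e : PQ K) : PG K) = ε⁻¹ (e : PG K) := by
    intro e
    have h1 := ht (t⁻¹ e)
    rw [MulAut.apply_inv_self] at h1
    rw [h1, MulAut.inv_apply_self]
  show iso C ((t (n (t⁻¹ e)) : PQ K) : PG K) = _
  rw [ht, iso_ep C hε, iso_wq C hn, ht', iso_ep_inv C hε]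
  rfl

/-- `W_κ` exists -/
theorem exists_wk {p n : ℕ} (hG : StGrp.{u}) (hK : HypK K p n) (h3 : p ^ n = 3) (κ : K) :
    ∃ γ : MulAut (PQ K), IsWk κ γ := by
  obtain ⟨-, -, -, -, -, h6, -, ⟨w, hw⟩⟩ := hG hK
  obtain ⟨ε, hε⟩ := h6 (p_eq hK.pp h3) κ
  have h1 : ∀ g : PG K, (ε.symm g).c = g.c := by
    intro g
    have h2 := hε.c (ε.symm g)
    rw [MulEquiv.apply_symm_apply] at h2
    exact h2.symm
  let t : MulAut (PQ K) := {
    toFun := fun e => ⟨ε e, by
      have h2 := hε.c (e : PG K)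
      exact h2.trans e.2⟩
    invFun := fun e => ⟨ε.symm e, (h1 _).trans e.2⟩
    left_inv := fun e => Subtype.ext (ε.symm_apply_apply _)
    right_inv := fun e => Subtype.ext (ε.apply_symm_apply _)
    map_mul' := fun x y => Subtype.ext (map_mul ε (x : PG K) (y : PG K)) }
  exact ⟨t * w * t⁻¹, ε, w, t, hε, hw, fun e => rfl, rfl⟩

end

end Cfsg.Agent.H815.P4
end

-- part: H815/P4/Real
section
/-!
# S5210, `q = 3` (3P): from the data on the model `M6` to the fusion system on `PG K` (helper815)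

* `Sys` : `F` is the system induced by `φ : M6 →* G` through `iso C`
* `exists_sys`, `Sys.tor`, `Sys.tor'`, `Sys.wv`, `Sys.wk`, `Sys.neg`
-/

set_option autoImplicit false

namespace Cfsg.Agent.H815.P4

open Cfsg Cfsg.FusionSystem Cfsg.Agent.H776.P4
open Cfsg.Agent.H756.PU (HypK Ess Inv Com NormAut TIAut AF)
open Cfsg.Agent.H264.U4

universe u v

section
variable {K : Type u} [Field K] [StarRing K] {G : Type} [Group G]

/-- `F` is the fusion system on `PG K` induced by the homomorphism `φ` on the model `M6` -/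
structure Sys (C : Cx K) (φ : M6 →* G) (F : FusionSystem (⊤ : Subgroup (PG K))) : Prop where
  top : ∀ α : MulAut (PG K), α ∈ AF F ↔ ∃ g : G, ∀ x : PG K, φ (iso C (α x)) = g * φ (iso C x) * g⁻¹
  aut : ∀ (Q : Subgroup (PG K)) (γ : MulAut Q), γ ∈ F.autGroup Q ↔
    ∃ g : G, ∀ e : Q, φ (iso C ((γ e : Q) : PG K)) = g * φ (iso C (e : PG K)) * g⁻¹

theorem exists_sys {p n : ℕ} [Fact p.Prime] [Finite G] (h3 : p ^ n = 3) (C : Cx K) (φ : M6 →* G)
    (hinj : Function.Injective φ) (hidx : ¬ 3 ∣ φ.range.index) :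
    ∃ F : FusionSystem (⊤ : Subgroup (PG K)), F.IsSaturated p ∧ F.IsRealizable p ∧ Sys C φ F := by
  obtain rfl := p_eq (Fact.out : p.Prime) h3
  have hr : (φ.comp (iso C).toMonoidHom).range = φ.range := by
    ext y
    constructor
    · rintro ⟨x, rfl⟩
      exact ⟨_, rfl⟩
    · rintro ⟨x, rfl⟩
      refine ⟨(iso C).symm x, ?_⟩
      change φ (iso C ((iso C).symm x)) = φ x
      rw [MulEquiv.apply_symm_apply]
  have hpg : IsPGroup 3 (PG K) := IsPGroup.of_card (n := 6) (card_PG C)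
  obtain ⟨F, h1, h2, h4, h5⟩ := exists_pull (φ.comp (iso C).toMonoidHom) (hinj.comp (iso C).injective) hpg
    (by rw [hr]; exact hidx)
  exact ⟨F, h1, h2, h4, h5⟩

variable {C : Cx K} {φ : M6 →* G} {F : FusionSystem (⊤ : Subgroup (PG K))}

/-- elements of the torus (no field automorphism) -/
theorem Sys.tor (h : Sys C φ F) {s0 s1 l : ZMod 3} (hr : ∃ g : G, ∀ x : M6, φ (M6.tor s0 s1 l 1 x) = g * φ x * g⁻¹)
    {α : MulAut (PG K)} {s l' : K} {τ : K ≃+* K} (hα : IsTorP α s l' τ) (h0 : C.re s = s0) (h1 : C.im s = s1)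
    (hl : C.re l' = l) (hτ : ∀ x, τ x = x) : α ∈ AF F := by
  obtain ⟨g, hg⟩ := hr
  rw [h.top]
  refine ⟨g, fun x => ?_⟩
  rw [iso_tor C hα hτ, h0, h1, hl]
  exact hg _

/-- elements of the torus (with the field automorphism) -/
theorem Sys.tor' (h : Sys C φ F) {s0 s1 l : ZMod 3} (hr : ∃ g : G, ∀ x : M6, φ (M6.tor s0 s1 l (-1) x) = g * φ x * g⁻¹)
    {α : MulAut (PG K)} {s l' : K} {τ : K ≃+* K} (hα : IsTorP α s l' τ) (h0 : C.re s = s0) (h1 : C.im s = s1)
    (hl : C.re l' = l) (hτ : ∀ x, τ x = star x) : α ∈ AF F := by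
  obtain ⟨g, hg⟩ := hr
  rw [h.top]
  refine ⟨g, fun x => ?_⟩
  rw [iso_tor' C hα hτ, h0, h1, hl]
  exact hg _

/-- the Weyl element on `V` -/
theorem Sys.wv {p n : ℕ} (hG : StGrp.{u}) (hK : HypK K p n) (h : Sys C φ F)
    (hr : ∃ g : G, ∀ x : M6, x.r0 = 0 → x.r1 = 0 → φ (M6.wv x) = g * φ x * g⁻¹) :
    ∃ γ ∈ F.autGroup (PV K), IsWV γ := by
  obtain ⟨-, -, -, -, -, -, ⟨w, hw⟩, -⟩ := hG hK
  obtain ⟨g, hg⟩ := hr
  refine ⟨w, ?_, hw⟩
  rw [h.aut]
  refine ⟨g, fun e => ?_⟩
  rw [iso_wv C hw]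
  have he : (e : PG K).r = 0 := e.2
  refine hg _ ?_ ?_
  · rw [iso_r0, he, C.re_zero]
  · rw [iso_r1, he, C.im_zero]

/-- `W_κ` -/
theorem Sys.wk {p n : ℕ} (hG : StGrp.{u}) (hK : HypK K p n) (h3 : p ^ n = 3) (h : Sys C φ F) {k0 k1 : ZMod 3} {κ : K}
    (h0 : C.re κ = k0) (h1 : C.im κ = k1)
    (hr : ∃ g : G, ∀ x : M6, x.c = 0 → φ (M6.wk k0 k1 x) = g * φ x * g⁻¹) : κ ∈ Pt (F.autGroup (PQ K)) := by
  obtain ⟨γ, hγ⟩ := exists_wk hG hK h3 κ
  obtain ⟨g, hg⟩ := hr
  refine ⟨γ, ?_, hγ⟩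
  rw [h.aut]
  refine ⟨g, fun e => ?_⟩
  rw [iso_wk C hγ, h0, h1]
  have he : (e : PG K).c = 0 := e.2
  refine hg _ ?_
  rw [iso_c, he, C.re_zero]

/-- an automorphism in `Aut_F(S)` inverting `V` and trivial on `S / V` -/
theorem Sys.neg (h : Sys C φ F) {α : MulAut (PG K)} (hα : α ∈ AF F) (h1 : ∀ x ∈ PV K, α x = x⁻¹)
    (h2 : ∀ x, (α x).r = x.r) : ∃ g : G, (∀ x : M6, x.r0 = 0 → x.r1 = 0 → g * φ x * g⁻¹ = φ x⁻¹) ∧
      ∀ x : M6, ∃ y : M6, y.r0 = x.r0 ∧ y.r1 = x.r1 ∧ g * φ x * g⁻¹ = φ y := by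
  obtain ⟨g, hg⟩ := (h.top α).1 hα
  refine ⟨g, fun x hx0 hx1 => ?_, fun x => ?_⟩
  · have h3 := hg ((iso C).symm x)
    rw [MulEquiv.apply_symm_apply] at h3
    have h4 : (iso C).symm x ∈ PV K := by
      have e0 : ((iso C).symm x).r = C.c x.r0 + C.c x.r1 * C.i := rfl
      change ((iso C).symm x).r = 0
      rw [e0, hx0, hx1, map_zero, zero_mul, add_zero]
    rw [h1 _ h4, map_inv, MulEquiv.apply_symm_apply] at h3
    exact h3.symm
  · have h3 := hg ((iso C).symm x)
    rw [MulEquiv.apply_symm_apply] at h3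
    refine ⟨iso C (α ((iso C).symm x)), ?_, ?_, h3.symm⟩
    · rw [iso_r0, h2, ← iso_r0, MulEquiv.apply_symm_apply]
    · rw [iso_r1, h2, ← iso_r1, MulEquiv.apply_symm_apply]

end

end Cfsg.Agent.H815.P4
end

-- part: H264/U4/MatA
section
/-!
# Explicit elements of `Co0` for S5210, `q = 3` (helper264; generated)
-/

set_option autoImplicit false
set_option maxRecDepth 20000

namespace Cfsg.Agent.H264.U4

open Cfsg.Agent.LThreeCo1.Ev Cfsg.Agent.SporadicStructure.Co0Matrix Cfsg.Agent.CoOneType.CoEval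

/-- matrix (times 8) -/
noncomputable def A1 : List (List ℤ) :=
  (by
  refine (?fq9001 : (fun (Oz : (n : Nat) → OfNat Int n → Int) (Iz : (n : Nat) → OfNat Int n) (Gz : Int → Int) => ((pk61l (fun i1 => (pk61l (fun i2 => (pk61y Oz Iz Gz (pk61d (nat_lit 4) 
    (nat_lit 0x211616222222252262622122622222161116161621211211511161225222222262152122211116222222225512152622511611222252222212122652216111252222225262122152122222911111611126211211122252111111111621511266152522161111111121261216122222111611161121266261152225116116111121211261211111255222222212625622122222611111911126211211652222111611116121511211266161222222252212122622125222111166111121561211122552111116116121216211122222611111611129211211122222116161166121211216125522116611111621211211122222111616111151211516625225111111111121216216122255161661111121211211261111222252222562125122) i2))) (Nat.mul (nat_lit 24) i1) (Nat.mul (nat_lit 24) (Nat.succ i1)) List.nil)) (nat_lit 0) (nat_lit 24) List.nil)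 : List (List ℤ)))
    = ?xq9001 → (List (List ℤ))) ?hq9001; (case hq9001 => (set_option maxRecDepth 1000000 in conv => lhs; reduce)); intro _; exact ?xq9001 (@OfNat.ofNat Int) (@instOfNat) (@Neg.neg Int Int.instNegInt) : List (List ℤ))

theorem okA1 : Ok A1 (tr A1) := Cfsg.Agent.Co0Q.ok_of (by decide +kernel)

/-- matrix (times 8) -/
noncomputable def A2 : List (List ℤ) :=
  (by
  refine (?fq9002 : (fun (Oz : (n : Nat) → OfNat Int n → Int) (Iz : (n : Nat) → OfNat Int n) (Gz : Int → Int) => ((pk61l (fun i1 => (pk61l (fun i2 => (pk61y Oz Iz Gz (pk61d (nat_lit 4) 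
    (nat_lit 0xc430) (pk61d (nat_lit 2) 
    (nat_lit 0x600002084c21900001048832096654a22148069598a121480996a46122440665686222440aaa68a12184066aa4611148096998a112440aa5a4a212880999686211486000020844230aa9945221440a5554611184b00001048812069a54a21244e000020844210aa65851124860000208c4210a5a986222880a59649122489000010c88120a56a8921144900003048812) i2)))) (Nat.mul (nat_lit 24) i1) (Nat.mul (nat_lit 24) (Nat.succ i1)) List.nil)) (nat_lit 0) (nat_lit 24) List.nil) : List (List ℤ)))
    = ?xq9002 → (List (List ℤ))) ?hq9002; (case hq9002 => (set_option maxRecDepth 1000000 in conv => lhs; reduce)); intro _; exact ?xq9002 (@OfNat.ofNat Int) (@instOfNat) (@Neg.neg Int Int.instNegInt) : List (List ℤ))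

theorem okA2 : Ok A2 (tr A2) := Cfsg.Agent.Co0Q.ok_of (by decide +kernel)

/-- matrix (times 8) -/
noncomputable def A3 : List (List ℤ) :=
  (by
  refine (?fq9003 : (fun (Oz : (n : Nat) → OfNat Int n → Int) (Iz : (n : Nat) → OfNat Int n) (Gz : Int → Int) => ((pk61l (fun i1 => (pk61l (fun i2 => (pk61y Oz Iz Gz (pk61d (nat_lit 4) 
    (nat_lit 0x83443044030000300800000804343043030008400000000430000300303333043433334340000300304334033333433330000400303344034434434440000400304343044334333003344033830700300000000330000300404444043434333340000300303344043344344003333843040000307000000440000300403443033334434004343034048000300000008003333743040000308000000003344044040080400007000084334033040000400800000430000300304343033444443003443033040000480000800003344033730800300000000803434034040008300000000003333034030000400080070003344044040070400008000004334044030000380000800003333034030000400070080003434043038000400000008) i2))) (Nat.mul (nat_lit 24) i1) (Nat.mul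 (nat_lit 24) (Nat.succ i1)) List.nil)) (nat_lit 0) (nat_lit 24) List.nil) : List (List ℤ)))
    = ?xq9003 → (List (List ℤ))) ?hq9003; (case hq9003 => (set_option maxRecDepth 1000000 in conv => lhs; reduce)); intro _; exact ?xq9003 (@OfNat.ofNat Int) (@instOfNat) (@Neg.neg Int Int.instNegInt) : List (List ℤ))

theorem okA3 : Ok A3 (tr A3) := Cfsg.Agent.Co0Q.ok_of (by decide +kernel)

/-- matrix (times 8) -/
noncomputable def A4 : List (List ℤ) :=
  (by
  refine (?fq9004 : (fun (Oz : (n : Nat) → OfNat Int n → Int) (Iz : (n : Nat) → OfNat Int n) (Gz : Int → Int) => ((pk61l (fun i1 => (pk61l (fun i2 => (pk61y Oz Iz Gz (pk61d (nat_lit 4) 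
    (nat_lit 0x870) (pk61d (nat_lit 2) 
    (nat_lit 0x800000008402200002040020090000100040060000100040000a0400200000090800200000a020400000009020800000000040020208000a0800100000602080000020000108002000060800200005000010008010000208002000008001020880000000480200a010800000400000008802000080020204050000200040200002080010000080020108800000008801) i2)))) (Nat.mul (nat_lit 24) i1) (Nat.mul (nat_lit 24) (Nat.succ i1)) List.nil)) (nat_lit 0) (nat_lit 24) List.nil) : List (List ℤ)))
    = ?xq9004 → (List (List ℤ))) ?hq9004; (case hq9004 => (set_option maxRecDepth 1000000 in conv => lhs; reduce)); intro _; exact ?xq9004 (@OfNat.ofNat Int) (@instOfNat) (@Neg.neg Int Int.instNegInt) : List (List ℤ))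

theorem okA4 : Ok A4 (tr A4) := Cfsg.Agent.Co0Q.ok_of (by decide +kernel)

/-- matrix (times 8) -/
noncomputable def A5 : List (List ℤ) :=
  (by
  refine (?fq9005 : (fun (Oz : (n : Nat) → OfNat Int n → Int) (Iz : (n : Nat) → OfNat Int n) (Gz : Int → Int) => ((pk61l (fun i1 => (pk61l (fun i2 => (pk61y Oz Iz Gz (pk61d (nat_lit 4) 
    (nat_lit 0x62222512215121221266222226111121156212162122161121166121626215112122111121661151151212112125111112525212212151221261252262222212262156521211222221161121121212662152116112222212212126226216255212522212215121526511222226161621121262115122111165522212512121221211225221111121121a12112122611621116621151212112622116112522515212126251211222221111651621212612122161115222262212126221561222212222215562121226261222221111121621262162625111162225262212121256211222251161126121212112622161112222212212621221211a22526116126121212612125111121111156126262112122116112222212212621221211522a) i2))) (Nat.mul (nat_lit 24) i1) (Nat.mul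 (nat_lit 24) (Nat.succ i1)) List.nil)) (nat_lit 0) (nat_lit 24) List.nil) : List (List ℤ)))
    = ?xq9005 → (List (List ℤ))) ?hq9005; (case hq9005 => (set_option maxRecDepth 1000000 in conv => lhs; reduce)); intro _; exact ?xq9005 (@OfNat.ofNat Int) (@instOfNat) (@Neg.neg Int Int.instNegInt) : List (List ℤ))

theorem okA5 : Ok A5 (tr A5) := Cfsg.Agent.Co0Q.ok_of (by decide +kernel)

end Cfsg.Agent.H264.U4
end

-- part: H264/U4/MatB
section
/-!
# Explicit elements of `Co0` for S5210, `q = 3` (helper264; generated)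
-/

set_option autoImplicit false
set_option maxRecDepth 20000

namespace Cfsg.Agent.H264.U4

open Cfsg.Agent.LThreeCo1.Ev Cfsg.Agent.SporadicStructure.Co0Matrix Cfsg.Agent.CoOneType.CoEval

/-- matrix (times 8) -/
noncomputable def A6 : List (List ℤ) :=
  (by
  refine (?fq9006 : (fun (Oz : (n : Nat) → OfNat Int n → Int) (Iz : (n : Nat) → OfNat Int n) (Gz : Int → Int) => ((pk61l (fun i1 => (pk61l (fun i2 => (pk61y Oz Iz Gz (pk61d (nat_lit 4) 
    (nat_lit 0xc430) (pk61d (nat_lit 2) 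
    (nat_lit 0x700001084822a000020484310696549222840965989122840995685221880666a451218805a964a12184099aa4511284096a549211880a5564a11288066968521284a000020484130a59545121440aa9a4922248a00002048c11069998911188a000020c841105a55451124850000108c8220555a49211440aa594621184d00001084822055994622288500003084822) i2)))) (Nat.mul (nat_lit 24) i1) (Nat.mul (nat_lit 24) (Nat.succ i1)) List.nil)) (nat_lit 0) (nat_lit 24) List.nil) : List (List ℤ)))
    = ?xq9006 → (List (List ℤ))) ?hq9006; (case hq9006 => (set_option maxRecDepth 1000000 in conv => lhs; reduce)); intro _; exact ?xq9006 (@OfNat.ofNat Int) (@instOfNat) (@Neg.neg Int Int.instNegInt) : List (List ℤ))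

theorem okA6 : Ok A6 (tr A6) := Cfsg.Agent.Co0Q.ok_of (by decide +kernel)

/-- matrix (times 8) -/
noncomputable def A7 : List (List ℤ) :=
  (by
  refine (?fq9007 : (fun (Oz : (n : Nat) → OfNat Int n → Int) (Iz : (n : Nat) → OfNat Int n) (Gz : Int → Int) => ((pk61l (fun i1 => (pk61l (fun i2 => (pk61y Oz Iz Gz (pk61d (nat_lit 4) 
    (nat_lit 0xc430) (pk61d (nat_lit 2) 
    (nat_lit 0x500001088832a000020c4421099654521144066598511144096968922144069aa49121440a5994a21148066664a211840695689212480aa5549121880995a8a1118450000308881205569892218805a594a22244a0000204c4210966a4911248a00002044c2105aa58a11148d000010888120aa6a86221480a5658a12244700001088812055564612148a00002044423) i2)))) (Nat.mul (nat_lit 24) i1) (Nat.mul (nat_lit 24) (Nat.succ i1)) List.nil)) (nat_lit 0) (nat_lit 24) List.nil) : List (List ℤ)))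
    = ?xq9007 → (List (List ℤ))) ?hq9007; (case hq9007 => (set_option maxRecDepth 1000000 in conv => lhs; reduce)); intro _; exact ?xq9007 (@OfNat.ofNat Int) (@instOfNat) (@Neg.neg Int Int.instNegInt) : List (List ℤ))

theorem okA7 : Ok A7 (tr A7) := Cfsg.Agent.Co0Q.ok_of (by decide +kernel)

/-- matrix (times 8) -/
noncomputable def B1 : List (List ℤ) :=
  (by
  refine (?fq9008 : (fun (Oz : (n : Nat) → OfNat Int n → Int) (Iz : (n : Nat) → OfNat Int n) (Gz : Int → Int) => ((pk61l (fun i1 => (pk61l (fun i2 => (pk61y Oz Iz Gz (pk61d (nat_lit 4) 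
    (nat_lit 0x222261112166162261211111616122226222251122622222522216112611112561211111222261115611115211211611161125226225521122122222111152221222521622622225111122221522551122155222522511112161612211211611166122221552221122122225111122a2122222112512225222521116211161526121111166115225122222112212522211112252122222112a1222521611222212222211526525222222161621111622112116161116222515252211226222222225111151111122612161161111225212222211251222a2161622221222256622122222116655221222221122152222611122221225226122152225225211112116112511216611111122256252221622152222111125221252226122625222) i2))) (Nat.mul (nat_lit 24) i1) (Nat.mul (nat_lit 24) (Nat.succ i1)) List.nil)) (nat_lit 0) (nat_lit 24) List.nil) : List (List ℤ)))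
    = ?xq9008 → (List (List ℤ))) ?hq9008; (case hq9008 => (set_option maxRecDepth 1000000 in conv => lhs; reduce)); intro _; exact ?xq9008 (@OfNat.ofNat Int) (@instOfNat) (@Neg.neg Int Int.instNegInt) : List (List ℤ))

theorem okB1 : Ok B1 (tr B1) := Cfsg.Agent.Co0Q.ok_of (by decide +kernel)

/-- matrix (times 8) -/
noncomputable def B2 : List (List ℤ) :=
  (by
  refine (?fq9009 : (fun (Oz : (n : Nat) → OfNat Int n → Int) (Iz : (n : Nat) → OfNat Int n) (Gz : Int → Int) => ((pk61l (fun i1 => (pk61l (fun i2 => (pk61y Oz Iz Gz (pk61d (nat_lit 4) 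
    (nat_lit 0x83443044030000300800000804343043030008400000000430000300303333043433334340000300304334033333433330000400303344034434434440000400304343044334333003344033830700300000000330000300404444043434333340000300303344043344344003333843040000307000000440000300403443033334434004343034048000300000008003333743040000308000000003344044040080400007000084334033040000400800000430000300304343033444443003443033040000480000800003344033730800300000000803434034040008300000000003333034030000400080070003344044040070400008000004334044030000380000800003333034030000400070080003434043038000400000008) i2))) (Nat.mul (nat_lit 24) i1) (Nat.mul (nat_lit 24) (Nat.succ i1)) List.nil)) (nat_lit 0) (nat_lit 24) List.nil) : List (List ℤ)))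
    = ?xq9009 → (List (List ℤ))) ?hq9009; (case hq9009 => (set_option maxRecDepth 1000000 in conv => lhs; reduce)); intro _; exact ?xq9009 (@OfNat.ofNat Int) (@instOfNat) (@Neg.neg Int Int.instNegInt) : List (List ℤ))

theorem okB2 : Ok B2 (tr B2) := Cfsg.Agent.Co0Q.ok_of (by decide +kernel)

end Cfsg.Agent.H264.U4
end

-- part: H264/U4/MatC
section
/-!
# Explicit elements of `Co0` for S5210, `q = 3` (helper264; generated)
-/

set_option autoImplicit false
set_option maxRecDepth 20000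

namespace Cfsg.Agent.H264.U4

open Cfsg.Agent.LThreeCo1.Ev Cfsg.Agent.SporadicStructure.Co0Matrix Cfsg.Agent.CoOneType.CoEval

/-- matrix (times 8) -/
noncomputable def B3 : List (List ℤ) :=
  (by
  refine (?fq9010 : (fun (Oz : (n : Nat) → OfNat Int n → Int) (Iz : (n : Nat) → OfNat Int n) (Gz : Int → Int) => ((pk61l (fun i1 => (pk61l (fun i2 => (pk61y Oz Iz Gz (pk61d (nat_lit 4) 
    (nat_lit 0x111116211261221162152126161116516216221112122121111616261211221612125121116161216261221112125121111611216211226112652121666111211211221612152121252222152152162221511212116111561211226162122121161661211511221162122121222222125122162551211512611611511261221112122621161111211211226112125626222222122122612226211292222222622622162221266212111161261216221112152621116116211511221112622621611111266511221112122126222222122122612229211262111161511211221612622126522255122122165221211212225522122125162221211215111111211566226612122121222222122122912226211262611111211216221162625121)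 i2))) (Nat.mul (nat_lit 24) i1) (Nat.mul (nat_lit 24) (Nat.succ i1)) List.nil)) (nat_lit 0) (nat_lit 24) List.nil) : List (List ℤ)))
    = ?xq9010 → (List (List ℤ))) ?hq9010; (case hq9010 => (set_option maxRecDepth 1000000 in conv => lhs; reduce)); intro _; exact ?xq9010 (@OfNat.ofNat Int) (@instOfNat) (@Neg.neg Int Int.instNegInt) : List (List ℤ))

theorem okB3 : Ok B3 (tr B3) := Cfsg.Agent.Co0Q.ok_of (by decide +kernel)

/-- matrix (times 8) -/
noncomputable def B4 : List (List ℤ) :=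
  (by
  refine (?fq9011 : (fun (Oz : (n : Nat) → OfNat Int n → Int) (Iz : (n : Nat) → OfNat Int n) (Gz : Int → Int) => ((pk61l (fun i1 => (pk61l (fun i2 => (pk61y Oz Iz Gz (pk61d (nat_lit 4) 
    (nat_lit 0x62222512215121221266222226111121156212162122161121166121626215112122111121661151151212112125111112525212212151221261252262222212262156521211222221161121121212662152116112222212212126226216255212522212215121526511222226161621121262115122111165522212512121221211225221111121121a12112122611621116621151212112622116112522515212126251211222221111651621212612122161115222262212126221561222212222215562121226261222221111121621262162625111162225262212121256211222251161126121212112622161112222212212621221211a22526116126121212612125111121111156126262112122116112222212212621221211522a) i2))) (Nat.mul (nat_lit 24) i1) (Nat.mul (nat_lit 24) (Nat.succ i1)) List.nil)) (nat_lit 0) (nat_lit 24) List.nil) : List (List ℤ)))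
    = ?xq9011 → (List (List ℤ))) ?hq9011; (case hq9011 => (set_option maxRecDepth 1000000 in conv => lhs; reduce)); intro _; exact ?xq9011 (@OfNat.ofNat Int) (@instOfNat) (@Neg.neg Int Int.instNegInt) : List (List ℤ))

theorem okB4 : Ok B4 (tr B4) := Cfsg.Agent.Co0Q.ok_of (by decide +kernel)

/-- matrix (times 8) -/
noncomputable def B5 : List (List ℤ) :=
  (by
  refine (?fq9012 : (fun (Oz : (n : Nat) → OfNat Int n → Int) (Iz : (n : Nat) → OfNat Int n) (Gz : Int → Int) => ((pk61l (fun i1 => (pk61l (fun i2 => (pk61y Oz Iz Gz (pk61d (nat_lit 4) 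
    (nat_lit 0x112225111262216121651222226111222126122512262611526111222151122265212111221611252121125215212611226111552121122212512116251611522156122212212111112222111a125611211212225211165251211222122126112211612251261222155121112211115221211222152651612211615221211255622121112211162521261222622121612211112226216a2212212111115555111212211121126222662252161212211121151222251116222121122515212116612522111212211621621252112222111512a61121121222221611225121122262262116251111222121122262515611112222166262211621126222165222116212216121121252521111222126125212215116221161222151122212212666) i2))) (Nat.mul (nat_lit 24) i1) (Nat.mul (nat_lit 24) (Nat.succ i1)) List.nil)) (nat_lit 0) (nat_lit 24) List.nil) : List (List ℤ)))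
    = ?xq9012 → (List (List ℤ))) ?hq9012; (case hq9012 => (set_option maxRecDepth 1000000 in conv => lhs; reduce)); intro _; exact ?xq9012 (@OfNat.ofNat Int) (@instOfNat) (@Neg.neg Int Int.instNegInt) : List (List ℤ))

theorem okB5 : Ok B5 (tr B5) := Cfsg.Agent.Co0Q.ok_of (by decide +kernel)

/-- matrix (times 8) -/
noncomputable def B6 : List (List ℤ) :=
  (by
  refine (?fq9013 : (fun (Oz : (n : Nat) → OfNat Int n → Int) (Iz : (n : Nat) → OfNat Int n) (Gz : Int → Int) => ((pk61l (fun i1 => (pk61l (fun i2 => (pk61y Oz Iz Gz (pk61d (nat_lit 4) 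
    (nat_lit 0xc430) (pk61d (nat_lit 2) 
    (nat_lit 0x500001088832a000020c4421099654521144066598511144096968922144069aa49121440a5994a21148066664a211840695689212480aa5549121880995a8a1118450000308881205569892218805a594a22244a0000204c4210966a4911248a00002044c2105aa58a11148d000010888120aa6a86221480a5658a12244700001088812055564612148a00002044423) i2)))) (Nat.mul (nat_lit 24) i1) (Nat.mul (nat_lit 24) (Nat.succ i1)) List.nil)) (nat_lit 0) (nat_lit 24) List.nil) : List (List ℤ)))
    = ?xq9013 → (List (List ℤ))) ?hq9013; (case hq9013 => (set_option maxRecDepth 1000000 in conv => lhs; reduce)); intro _; exact ?xq9013 (@OfNat.ofNat Int) (@instOfNat) (@Neg.neg Int Int.instNegInt) : List (List ℤ))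

theorem okB6 : Ok B6 (tr B6) := Cfsg.Agent.Co0Q.ok_of (by decide +kernel)

end Cfsg.Agent.H264.U4
end

-- part: H264/U4/Dat
section
/-!
# S5210, `q = 3`: the realised automorphisms in `Co0` and the fixed vectors (helper264)

`ph1` side: `Co₂ = Stab f0`, `U₆(2) = Stab (f0, f1)`, `U₆(2):2 = Stab (f0, {f1, f7})`, `f7 = f0 - f1`.
`ph2` side: `McL = Stab (f0, f10)`, `McL:2 = Stab {f0, f10}`.
-/

set_option autoImplicit false
set_option maxRecDepth 20000
set_option linter.style.longLine false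

namespace Cfsg.Agent.H264.U4

open Cfsg Cfsg.Agent.LThreeCo1.Ev Cfsg.Agent.SporadicStructure.Co0Matrix Cfsg.Agent.CoOneType.CoEval
open Cfsg.Agent.H776.Co Cfsg.Agent.H956.Co1P Cfsg.Agent.SporadicA
open Cfsg.Agent.SporadicStructure.Co2RankThree (dt card_stab_min)
open M6

/-! ### The elements -/

/-- `tor(1 + i, 1, 1)` for `ph1` -/
noncomputable def g1 : Co0 := _root_.Cfsg.Agent.SporadicStructure.Co0Matrix.mk okA1
/-- `tor(1, 1, star)` for `ph1` -/
noncomputable def g2 : Co0 := _root_.Cfsg.Agent.SporadicStructure.Co0Matrix.mk okA2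
/-- `tor(i, -1, 1)` for `ph1` -/
noncomputable def g3 : Co0 := _root_.Cfsg.Agent.SporadicStructure.Co0Matrix.mk okA3
/-- `tor(1, -1, 1)` for `ph1` -/
noncomputable def g4 : Co0 := _root_.Cfsg.Agent.SporadicStructure.Co0Matrix.mk okA4
/-- the Weyl element on `V` for `ph1` -/
noncomputable def g5 : Co0 := _root_.Cfsg.Agent.SporadicStructure.Co0Matrix.mk okA5
/-- `W_0` for `ph1` -/
noncomputable def g6 : Co0 := _root_.Cfsg.Agent.SporadicStructure.Co0Matrix.mk okA6
/-- `W_1` for `ph1` -/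
noncomputable def g7 : Co0 := _root_.Cfsg.Agent.SporadicStructure.Co0Matrix.mk okA7
/-- `tor(1 + i, -1, star)` for `ph2` -/
noncomputable def k1 : Co0 := _root_.Cfsg.Agent.SporadicStructure.Co0Matrix.mk okB1
/-- `tor(i, -1, 1)` for `ph2` -/
noncomputable def k2 : Co0 := _root_.Cfsg.Agent.SporadicStructure.Co0Matrix.mk okB2
/-- `tor(1, -1, 1)` for `ph2` -/
noncomputable def k3 : Co0 := _root_.Cfsg.Agent.SporadicStructure.Co0Matrix.mk okB3
/-- the Weyl element on `V` for `ph2` -/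
noncomputable def k4 : Co0 := _root_.Cfsg.Agent.SporadicStructure.Co0Matrix.mk okB4
/-- `W_{1+i}` for `ph2` -/
noncomputable def k5 : Co0 := _root_.Cfsg.Agent.SporadicStructure.Co0Matrix.mk okB5
/-- `W_{-(1+i)}` for `ph2` -/
noncomputable def k6 : Co0 := _root_.Cfsg.Agent.SporadicStructure.Co0Matrix.mk okB6

theorem cA1 : ∀ i : Fin 6, chk A1 2 2 0 (_root_.Cfsg.Agent.H264.U4.M6.tor 1 1 1 1) i = true := by delta chk eqB; rw [Cfsg.Agent.Co0Q.foldZ_eq]; decide +kernel
theorem cA2 : ∀ i : Fin 6, chk A2 2 2 0 (_root_.Cfsg.Agent.H264.U4.M6.tor 1 0 1 (-1)) i = true := by delta chk eqB; rw [Cfsg.Agent.Co0Q.foldZ_eq]; decide +kernel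
theorem cA3 : ∀ i : Fin 6, chk A3 2 2 0 (_root_.Cfsg.Agent.H264.U4.M6.tor 0 1 (-1) 1) i = true := by delta chk eqB; rw [Cfsg.Agent.Co0Q.foldZ_eq]; decide +kernel
theorem cA4 : ∀ i : Fin 6, chk A4 2 2 0 (_root_.Cfsg.Agent.H264.U4.M6.tor 1 0 (-1) 1) i = true := by delta chk eqB; rw [Cfsg.Agent.Co0Q.foldZ_eq]; decide +kernel
theorem cA5 : ∀ i : Fin 6, i ≠ 0 → i ≠ 1 → chk A5 2 2 0 _root_.Cfsg.Agent.H264.U4.M6.wv i = true := by delta chk eqB; rw [Cfsg.Agent.Co0Q.foldZ_eq]; decide +kernel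
theorem cA6 : ∀ i : Fin 6, i ≠ 5 → chk A6 2 2 0 (wk 0 0) i = true := by delta chk eqB; rw [Cfsg.Agent.Co0Q.foldZ_eq]; decide +kernel
theorem cA7 : ∀ i : Fin 6, i ≠ 5 → chk A7 2 2 0 (wk 1 0) i = true := by delta chk eqB; rw [Cfsg.Agent.Co0Q.foldZ_eq]; decide +kernel
theorem cB1 : ∀ i : Fin 6, chk B1 2 1 1 (_root_.Cfsg.Agent.H264.U4.M6.tor 1 1 (-1) (-1)) i = true := by delta chk eqB; rw [Cfsg.Agent.Co0Q.foldZ_eq]; decide +kernel
theorem cB2 : ∀ i : Fin 6, chk B2 2 1 1 (_root_.Cfsg.Agent.H264.U4.M6.tor 0 1 (-1) 1) i = true := by delta chk eqB; rw [Cfsg.Agent.Co0Q.foldZ_eq]; decide +kernel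
theorem cB3 : ∀ i : Fin 6, chk B3 2 1 1 (_root_.Cfsg.Agent.H264.U4.M6.tor 1 0 (-1) 1) i = true := by delta chk eqB; rw [Cfsg.Agent.Co0Q.foldZ_eq]; decide +kernel
theorem cB4 : ∀ i : Fin 6, i ≠ 0 → i ≠ 1 → chk B4 2 1 1 _root_.Cfsg.Agent.H264.U4.M6.wv i = true := by delta chk eqB; rw [Cfsg.Agent.Co0Q.foldZ_eq]; decide +kernel
theorem cB5 : ∀ i : Fin 6, i ≠ 5 → chk B5 2 1 1 (wk 1 1) i = true := by delta chk eqB; rw [Cfsg.Agent.Co0Q.foldZ_eq]; decide +kernel
theorem cB6 : ∀ i : Fin 6, i ≠ 5 → chk B6 2 1 1 (wk (-1) (-1)) i = true := by delta chk eqB; rw [Cfsg.Agent.Co0Q.foldZ_eq]; decide +kernel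

theorem tor_spec {A : List (List ℤ)} (h : Ok A (tr A)) {s k0 k1 s0 s1 l g : ZMod 3} (hg : g ^ 2 = 1)
    (hc : ∀ i : Fin 6, chk A s k0 k1 (_root_.Cfsg.Agent.H264.U4.M6.tor s0 s1 l g) i = true) (x : M6) :
    ph s k0 k1 (tor s0 s1 l g x) = _root_.Cfsg.Agent.SporadicStructure.Co0Matrix.mk h * ph s k0 k1 x * (mk h)⁻¹ :=
  _root_.Cfsg.Agent.H264.U4.M6.agree (R := ⊤) (fun x _ y _ => _root_.Cfsg.Agent.H264.U4.M6.tor_mul hg x y) _ (fun i _ => chk_spec h (hc i)) fun _ => Or.inr trivial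

theorem wv_spec {A : List (List ℤ)} (h : Ok A (tr A)) {s k0 k1 : ZMod 3}
    (hc : ∀ i : Fin 6, i ≠ 0 → i ≠ 1 → chk A s k0 k1 _root_.Cfsg.Agent.H264.U4.M6.wv i = true) {x : M6} (hx : x ∈ MV) :
    ph s k0 k1 (_root_.Cfsg.Agent.H264.U4.M6.wv x) = _root_.Cfsg.Agent.SporadicStructure.Co0Matrix.mk h * ph s k0 k1 x * (mk h)⁻¹ := by
  refine _root_.Cfsg.Agent.H264.U4.M6.agree (R := MV) (fun x hx y hy => wv_mul hx hy) _ (fun i hi => chk_spec h (hc i ?_ ?_)) fun i => ?_
  · rintro rfl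
    exact absurd hi.1 (by decide)
  · rintro rfl
    exact absurd hi.2 (by decide)
  · obtain ⟨h0, h1⟩ := hx
    fin_cases i
    · exact Or.inl h0
    · exact Or.inl h1
    · exact Or.inr ⟨rfl, rfl⟩
    · exact Or.inr ⟨rfl, rfl⟩
    · exact Or.inr ⟨rfl, rfl⟩
    · exact Or.inr ⟨rfl, rfl⟩

theorem wk_spec {A : List (List ℤ)} (h : Ok A (tr A)) {s k0 k1 a0 a1 : ZMod 3}
    (hc : ∀ i : Fin 6, i ≠ 5 → chk A s k0 k1 (wk a0 a1) i = true) {x : M6} (hx : x ∈ MQ) :
    ph s k0 k1 (wk a0 a1 x) = _root_.Cfsg.Agent.SporadicStructure.Co0Matrix.mk h * ph s k0 k1 x * (mk h)⁻¹ := by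
  refine _root_.Cfsg.Agent.H264.U4.M6.agree (R := MQ) (fun x hx y hy => wk_mul a0 a1 hx hy) _ (fun i hi => chk_spec h (hc i ?_)) fun i => ?_
  · rintro rfl
    exact absurd (show (1 : ZMod 3) = 0 from hi) (by decide)
  · have h5 : x.c = 0 := hx
    fin_cases i
    · exact Or.inr rfl
    · exact Or.inr rfl
    · exact Or.inr rfl
    · exact Or.inr rfl
    · exact Or.inr rfl
    · exact Or.inl h5

theorem r1 (x : M6) : ph1 (tor 1 1 1 1 x) = g1 * ph1 x * g1⁻¹ := tor_spec okA1 (by decide) cA1 x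
theorem r2 (x : M6) : ph1 (_root_.Cfsg.Agent.H264.U4.M6.tor 1 0 1 (-1) x) = g2 * ph1 x * g2⁻¹ := tor_spec okA2 (by decide) cA2 x
theorem r3 (x : M6) : ph1 (tor 0 1 (-1) 1 x) = g3 * ph1 x * g3⁻¹ := tor_spec okA3 (by decide) cA3 x
theorem r4 (x : M6) : ph1 (tor 1 0 (-1) 1 x) = g4 * ph1 x * g4⁻¹ := tor_spec okA4 (by decide) cA4 x
theorem r5 {x : M6} (hx : x ∈ MV) : ph1 (_root_.Cfsg.Agent.H264.U4.M6.wv x) = g5 * ph1 x * g5⁻¹ := wv_spec okA5 cA5 hx
theorem r6 {x : M6} (hx : x ∈ MQ) : ph1 (wk 0 0 x) = g6 * ph1 x * g6⁻¹ := wk_spec okA6 cA6 hx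
theorem r7 {x : M6} (hx : x ∈ MQ) : ph1 (wk 1 0 x) = g7 * ph1 x * g7⁻¹ := wk_spec okA7 cA7 hx
theorem q1 (x : M6) : ph2 (_root_.Cfsg.Agent.H264.U4.M6.tor 1 1 (-1) (-1) x) = k1 * ph2 x * k1⁻¹ := tor_spec okB1 (by decide) cB1 x
theorem q2 (x : M6) : ph2 (tor 0 1 (-1) 1 x) = k2 * ph2 x * k2⁻¹ := tor_spec okB2 (by decide) cB2 x
theorem q3 (x : M6) : ph2 (tor 1 0 (-1) 1 x) = k3 * ph2 x * k3⁻¹ := tor_spec okB3 (by decide) cB3 x
theorem q4 {x : M6} (hx : x ∈ MV) : ph2 (_root_.Cfsg.Agent.H264.U4.M6.wv x) = k4 * ph2 x * k4⁻¹ := wv_spec okB4 cB4 hx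
theorem q5 {x : M6} (hx : x ∈ MQ) : ph2 (wk 1 1 x) = k5 * ph2 x * k5⁻¹ := wk_spec okB5 cB5 hx
theorem q6 {x : M6} (hx : x ∈ MQ) : ph2 (wk (-1) (-1) x) = k6 * ph2 x * k6⁻¹ := wk_spec okB6 cB6 hx

/-! ### The vectors -/

/-- the coordinates of `leechU` -/
def uL : List ℤ := (beta% delta% lq26e7e9e862 fun a b =>
 (a 4<|a 0<|a 0<|a 0<|a 0<|a 0<|a 0<|a 0<|a 0<|a 0<|a 0<|a 0<|a 0<|a 0<|a 0<|a 0<|a 0<|a 0<|a 0<|a 0<|a 0<|a 0<|a 0<|a 4<|b))
/-- the coordinates of `f0` -/
def f0L : List ℤ := (beta% delta% lq26e7e9e862 fun a b =>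
 (a 2<|a 0<|a 2<|a 0<|a 0<|a 2<|a 0<|a 2<|a 0<|a 2<|a 0<|a 0<|a 2<|a 0<|a 0<|a 0<|a 0<|a 0<|a 0<|a 0<|a 0<|a 0<|a 2<|a 2<|b))
/-- the coordinates of `f1` -/
def f1L : List ℤ := (beta% delta% lq26e7e9e862 fun a b =>
 (a (-2)<|a 0<|a 2<|a 0<|a 0<|a 2<|a 0<|a 2<|a 0<|a 2<|a 0<|a 0<|a (-2)<|a 0<|a 0<|a 0<|a 0<|a 0<|a 0<|a 0<|a 0<|a 0<|a 2<|a 2<|b))
/-- the coordinates of `f7 = f0 - f1` -/
def f7L : List ℤ := (beta% delta% lq26e7e9e862 fun a b =>
 (a 4<|a 0<|a 0<|a 0<|a 0<|a 0<|a 0<|a 0<|a 0<|a 0<|a 0<|a 0<|a 4<|a 0<|a 0<|a 0<|a 0<|a 0<|a 0<|a 0<|a 0<|a 0<|a 0<|a 0<|b))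
/-- the coordinates of `f10` -/
def f10L : List ℤ := (beta% delta% lq26e7e9e862 fun a b =>
 (a 2<|a 2<|a 0<|a 0<|a 0<|a 0<|a 2<|a 0<|a 0<|a 0<|a 2<|a 2<|a 2<|a 0<|a 0<|a 0<|a 0<|a 0<|a 0<|a 0<|a (-2)<|a (-2)<|a 0<|a 0<|b))

theorem vecU_eq : ((Spor.leechU : leechLattice) : GolayPt → ℤ) = _root_.Cfsg.Agent.SporadicStructure.Co0Matrix.vec uL := by
  show Spor.vecU = _root_.Cfsg.Agent.SporadicStructure.Co0Matrix.vec uL
  funext p
  revert p
  decide +kernel

/-- the vector `f0` -/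
noncomputable def f0 : leechLattice := (([13, 0, 13, 7, 0] : List ℕ).map (eX okA6)).prod.1 Spor.leechU
/-- the vector `f1` -/
noncomputable def f1 : leechLattice := (([13, 0, 13, 14, 7, 7] : List ℕ).map (eX okB5)).prod.1 Spor.leechU
/-- the vector `f7` -/
noncomputable def f7 : leechLattice := (([13, 0, 13, 2, 0, 10] : List ℕ).map (eX okA6)).prod.1 Spor.leechU
/-- the vector `f10` -/
noncomputable def f10 : leechLattice := k3.1 f0

theorem w0 : foldZ (MX A6) [13, 0, 13, 7, 0] uL = f0L := by rw [Cfsg.Agent.Co0Q.foldZ_eq]; decide +kernel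
theorem w1 : foldZ (MX B5) [13, 0, 13, 14, 7, 7] uL = f1L := by rw [Cfsg.Agent.Co0Q.foldZ_eq]; decide +kernel
theorem w7 : foldZ (MX A6) [13, 0, 13, 2, 0, 10] uL = f7L := by rw [Cfsg.Agent.Co0Q.foldZ_eq]; decide +kernel

theorem f0_eq : (f0 : GolayPt → ℤ) = _root_.Cfsg.Agent.SporadicStructure.Co0Matrix.vec f0L := by
  rw [f0, (fold_spec (repX okA6) [13, 0, 13, 7, 0] (l := uL) (by decide) vecU_eq).2, ← foldZ_eq, w0]

theorem f1_eq : (f1 : GolayPt → ℤ) = _root_.Cfsg.Agent.SporadicStructure.Co0Matrix.vec f1L := by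
  rw [f1, (fold_spec (repX okB5) [13, 0, 13, 14, 7, 7] (l := uL) (by decide) vecU_eq).2, ← foldZ_eq, w1]

theorem f7_eq : (f7 : GolayPt → ℤ) = _root_.Cfsg.Agent.SporadicStructure.Co0Matrix.vec f7L := by
  rw [f7, (fold_spec (repX okA6) [13, 0, 13, 2, 0, 10] (l := uL) (by decide) vecU_eq).2, ← foldZ_eq, w7]

theorem k_f10 : apZ B3 f0L = f10L := by decide +kernel

theorem f10_eq : (f10 : GolayPt → ℤ) = _root_.Cfsg.Agent.SporadicStructure.Co0Matrix.vec f10L := by
  rw [← k_f10, apZ_eq]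
  exact (rep_mk okB3).apply (by decide) f0_eq

/-! ### The fixed vectors of the elements -/

theorem g1_f0 : g1.1 f0 = f0 := act_eq okA1 (by decide) f0_eq f0_eq (by decide +kernel)
theorem g2_f0 : g2.1 f0 = f0 := act_eq okA2 (by decide) f0_eq f0_eq (by decide +kernel)
theorem g4_f0 : g4.1 f0 = f0 := act_eq okA4 (by decide) f0_eq f0_eq (by decide +kernel)
theorem g5_f0 : g5.1 f0 = f0 := act_eq okA5 (by decide) f0_eq f0_eq (by decide +kernel)
theorem g6_f0 : g6.1 f0 = f0 := act_eq okA6 (by decide) f0_eq f0_eq (by decide +kernel)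
theorem g7_f0 : g7.1 f0 = f0 := act_eq okA7 (by decide) f0_eq f0_eq (by decide +kernel)
theorem k1_f0 : k1.1 f0 = f0 := act_eq okB1 (by decide) f0_eq f0_eq (by decide +kernel)
theorem k2_f0 : k2.1 f0 = f0 := act_eq okB2 (by decide) f0_eq f0_eq (by decide +kernel)
theorem k3_f0 : k3.1 f0 = f10 := rfl
theorem k4_f0 : k4.1 f0 = f0 := act_eq okB4 (by decide) f0_eq f0_eq (by decide +kernel)
theorem k5_f0 : k5.1 f0 = f0 := act_eq okB5 (by decide) f0_eq f0_eq (by decide +kernel)
theorem k6_f0 : k6.1 f0 = f0 := act_eq okB6 (by decide) f0_eq f0_eq (by decide +kernel)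
theorem k1_f10 : k1.1 f10 = f10 := act_eq okB1 (by decide) f10_eq f10_eq (by decide +kernel)
theorem k2_f10 : k2.1 f10 = f10 := act_eq okB2 (by decide) f10_eq f10_eq (by decide +kernel)
theorem k3_f10 : k3.1 f10 = f0 := act_eq okB3 (by decide) f10_eq f0_eq (by decide +kernel)
theorem k4_f10 : k4.1 f10 = f10 := act_eq okB4 (by decide) f10_eq f10_eq (by decide +kernel)
theorem k5_f10 : k5.1 f10 = f10 := act_eq okB5 (by decide) f10_eq f10_eq (by decide +kernel)
theorem k6_f10 : k6.1 f10 = f10 := act_eq okB6 (by decide) f10_eq f10_eq (by decide +kernel)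

/-- the vectors fixed by the whole group `S` -/
theorem fix_of {f : leechLattice} {l : List ℤ} (hl : l.length ≤ 24) (hf : (f : GolayPt → ℤ) = _root_.Cfsg.Agent.SporadicStructure.Co0Matrix.vec l)
    (h : ∀ i : Fin 6, foldZ M (wd 0 0 0 (rt i 1)) l = l) (s k0 k1 : ZMod 3) (x : M6) : (ph s k0 k1 x).1 f = f := by
  have h0 : ∀ x : M6, (ph 0 0 0 x).1 f = f := by
    intro x
    let R : Subgroup M6 := (MulAction.stabilizer Co0 f).comap (ph 0 0 0)
    have hR : ∀ i, rt i 1 ∈ R := by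
      intro i
      show (ph 0 0 0 (rt i 1)).1 f = f
      rw [← wd_prod]
      apply Subtype.ext
      rw [(fold_spec rep (wd 0 0 0 (rt i 1)) hl hf).2, ← foldZ_eq, h i, hf]
    exact mem_of_rt (R := R) fun i => Or.inr (hR i)
  have h1 : ∀ y : M6, ph s k0 k1 y = ph 0 0 0 (be s k0 k1 y) := by
    intro y
    have h2 : be 0 0 0 (be s k0 k1 y) = be s k0 k1 y := by
      ext <;> simp only [be_apply, _root_.MulZeroClass.zero_mul, _root_.add_zero, _root_.MulZeroClass.mul_zero, _root_.sub_zero, _root_.sub_self]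
    show dat.hom (io (be s k0 k1 y)) = dat.hom (io (be 0 0 0 (be s k0 k1 y)))
    rw [h2]
  rw [h1]
  exact h0 _

theorem ph_f0 (s k0 k1 : ZMod 3) (x : M6) : (ph s k0 k1 x).1 f0 = f0 :=
  fix_of (by decide) f0_eq (by rw [Cfsg.Agent.Co0Q.foldZ_eq]; decide +kernel) s k0 k1 x

theorem ph_f1 (s k0 k1 : ZMod 3) (x : M6) : (ph s k0 k1 x).1 f1 = f1 :=
  fix_of (by decide) f1_eq (by rw [Cfsg.Agent.Co0Q.foldZ_eq]; decide +kernel) s k0 k1 x

theorem ph_f7 (s k0 k1 : ZMod 3) (x : M6) : (ph s k0 k1 x).1 f7 = f7 :=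
  fix_of (by decide) f7_eq (by rw [Cfsg.Agent.Co0Q.foldZ_eq]; decide +kernel) s k0 k1 x

theorem ph_f10 (s k0 k1 : ZMod 3) (x : M6) : (ph s k0 k1 x).1 f10 = f10 :=
  fix_of (by decide) f10_eq (by rw [Cfsg.Agent.Co0Q.foldZ_eq]; decide +kernel) s k0 k1 x

end Cfsg.Agent.H264.U4
end

-- part: H264/U4/Grps
section
/-!
# S5210, `q = 3`: the five groups `Co₂`, `U₆(2)`, `U₆(2):2`, `McL`, `McL:2` as subgroups of `Co0` (helper264)

`GA = Co₂`, `GB = U₆(2)`, `GB2 = U₆(2):2`, `GC = McL`, `GC2 = McL:2`; `pA : M6 →* GA` etc. are the restrictions of `ph1`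
(`A`, `B`, `B2`) and `ph2` (`C`, `C2`).
-/

set_option autoImplicit false
set_option maxRecDepth 20000
set_option linter.style.longLine false

namespace Cfsg.Agent.H264.U4

open Cfsg Cfsg.Agent.SporadicStructure.Co0Matrix
open Cfsg.Agent.SporadicStructure.Co2RankThree (dt card_stab_min)
open M6

/-- `Co₂` -/
noncomputable def GA : Subgroup Co0 := MulAction.stabilizer Co0 f0

/-- the elements fixing `v` and `w` -/
def Fx (v w : leechLattice) : Subgroup Co0 := MulAction.stabilizer Co0 v ⊓ MulAction.stabilizer Co0 w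

theorem mem_Fx {v w : leechLattice} {g : Co0} : g ∈ Fx v w ↔ g.1 v = v ∧ g.1 w = w := Iff.rfl

theorem mul_ap (g h : Co0) (v : leechLattice) : (g * h).1 v = g.1 (h.1 v) := rfl

theorem inv_ap {g : Co0} {v w : leechLattice} (h : g.1 v = w) : (g⁻¹).1 w = v := by
  rw [← h]
  exact congrArg (fun x : Co0 => x.1 v) (inv_mul_cancel g)

/-- the elements fixing or exchanging `v` and `w` -/
def Sw (v w : leechLattice) : Subgroup Co0 where
  carrier := {g | (g.1 v = v ∧ g.1 w = w) ∨ (g.1 v = w ∧ g.1 w = v)}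
  one_mem' := Or.inl ⟨rfl, rfl⟩
  mul_mem' := by
    rintro g h (⟨a, b⟩ | ⟨a, b⟩) (⟨c, d⟩ | ⟨c, d⟩)
    · exact Or.inl ⟨by rw [mul_ap, c, a], by rw [mul_ap, d, b]⟩
    · exact Or.inr ⟨by rw [mul_ap, c, b], by rw [mul_ap, d, a]⟩
    · exact Or.inr ⟨by rw [mul_ap, c, a], by rw [mul_ap, d, b]⟩
    · exact Or.inl ⟨by rw [mul_ap, c, b], by rw [mul_ap, d, a]⟩
  inv_mem' := by
    rintro g (⟨a, b⟩ | ⟨a, b⟩)
    · exact Or.inl ⟨inv_ap a, inv_ap b⟩
    · exact Or.inr ⟨inv_ap b, inv_ap a⟩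

/-- `U₆(2)` -/
noncomputable def GB : Subgroup Co0 := GA ⊓ Fx f1 f7
/-- `U₆(2):2` -/
noncomputable def GB2 : Subgroup Co0 := GA ⊓ Sw f1 f7
/-- `McL` -/
noncomputable def GC : Subgroup Co0 := Fx f0 f10
/-- `McL:2` -/
noncomputable def GC2 : Subgroup Co0 := Sw f0 f10

theorem GB_le_GB2 : GB ≤ GB2 := fun _ hg => ⟨hg.1, Or.inl hg.2⟩
theorem GC_le_GC2 : GC ≤ GC2 := fun _ hg => Or.inl hg
theorem GC_le_GA : GC ≤ GA := fun _ hg => hg.1

theorem dt_f0 : dt f0 f0 = 32 := by
  unfold dt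
  rw [f0_eq]
  decide +kernel

theorem card_GA : Nat.card GA = 42305421312000 := card_stab_min f0 dt_f0

instance finite_Co0 : Finite Co0 :=
  Nat.finite_of_card_ne_zero (by rw [Cfsg.Agent.S1582.card_co0]; norm_num)

theorem f0_ne_f10 : f0 ≠ f10 := by
  intro h
  have h1 : vec f0L (some 1) = vec f10L (some 1) := by rw [← f0_eq, ← f10_eq, h]
  exact absurd h1 (by decide +kernel)

/-! ### Index two -/

theorem relIndex_Fx {v w : leechLattice} (hvw : v ≠ w) {a : Co0} (h1 : a.1 v = w) (h2 : a.1 w = v) (H : Subgroup Co0)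
    (ha : a ∈ H) : (H ⊓ Fx v w).relIndex (H ⊓ Sw v w) = 2 := by
  rw [Subgroup.relIndex_eq_two_iff]
  refine ⟨a, ⟨ha, Or.inr ⟨h1, h2⟩⟩, ?_⟩
  rintro b ⟨hbH, ⟨h3, h4⟩ | ⟨h3, h4⟩⟩
  · refine Or.inr ⟨⟨hbH, h3, h4⟩, ?_⟩
    rintro ⟨-, h5, -⟩
    have h6 : (b * a).1 v = v := h5
    rw [mul_ap, h1, h4] at h6
    exact hvw h6.symm
  · refine Or.inl ⟨⟨H.mul_mem hbH ha, ?_, ?_⟩, ?_⟩
    · show (b * a).1 v = v
      rw [mul_ap, h1, h4]
    · show (b * a).1 w = w
      rw [mul_ap, h2, h3]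
    · rintro ⟨-, h5, -⟩
      have h6 : b.1 v = v := h5
      rw [h3] at h6
      exact hvw h6.symm

theorem relIndex_GC : GC.relIndex GC2 = 2 := by
  have h := relIndex_Fx f0_ne_f10 k3_f0 k3_f10 ⊤ trivial
  rwa [top_inf_eq, top_inf_eq] at h

/-! ### The embeddings -/

theorem mem_A (x : M6) : ph1 x ∈ GA := ph_f0 _ _ _ x
theorem mem_B (x : M6) : ph1 x ∈ GB := ⟨ph_f0 _ _ _ x, ph_f1 _ _ _ x, ph_f7 _ _ _ x⟩
theorem mem_B2 (x : M6) : ph1 x ∈ GB2 := GB_le_GB2 (mem_B x)
theorem mem_C (x : M6) : ph2 x ∈ GC := ⟨ph_f0 _ _ _ x, ph_f10 _ _ _ x⟩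
theorem mem_C2 (x : M6) : ph2 x ∈ GC2 := GC_le_GC2 (mem_C x)

/-- `S → Co₂` -/
noncomputable def pA : M6 →* GA := ph1.codRestrict GA mem_A
/-- `S → U₆(2)` -/
noncomputable def pB : M6 →* GB := ph1.codRestrict GB mem_B
/-- `S → U₆(2):2` -/
noncomputable def pB2 : M6 →* GB2 := ph1.codRestrict GB2 mem_B2
/-- `S → McL` -/
noncomputable def pC : M6 →* GC := ph2.codRestrict GC mem_C
/-- `S → McL:2` -/
noncomputable def pC2 : M6 →* GC2 := ph2.codRestrict GC2 mem_C2

@[simp] theorem pA_coe (x : M6) : ((pA x : GA) : Co0) = ph1 x := rfl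
@[simp] theorem pB_coe (x : M6) : ((pB x : GB) : Co0) = ph1 x := rfl
@[simp] theorem pB2_coe (x : M6) : ((pB2 x : GB2) : Co0) = ph1 x := rfl
@[simp] theorem pC_coe (x : M6) : ((pC x : GC) : Co0) = ph2 x := rfl
@[simp] theorem pC2_coe (x : M6) : ((pC2 x : GC2) : Co0) = ph2 x := rfl

theorem cod_injective {G : Subgroup Co0} {φ : M6 →* Co0} (hφ : Function.Injective φ) (h : ∀ x, φ x ∈ G) :
    Function.Injective (φ.codRestrict G h) := fun _ _ hxy => hφ (congrArg Subtype.val hxy)

theorem pA_injective : Function.Injective pA := cod_injective (ph_injective _ _ _) _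
theorem pC_injective : Function.Injective pC := cod_injective (ph_injective _ _ _) _
theorem pC2_injective : Function.Injective pC2 := cod_injective (ph_injective _ _ _) _

theorem card_range {φ : M6 →* Co0} (h : Function.Injective φ) : Nat.card φ.range = 729 := by
  rw [← Nat.card_congr (MonoidHom.ofInjective h).toEquiv, card_M6]; norm_num

theorem index_cod {G : Subgroup Co0} {φ : M6 →* Co0} (h : ∀ x, φ x ∈ G) :
    (φ.codRestrict G h).range.index = φ.range.relIndex G := by
  rw [Subgroup.relIndex]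
  congr 1
  ext y
  constructor
  · rintro ⟨x, rfl⟩
    exact ⟨x, rfl⟩
  · rintro ⟨x, hx⟩
    exact ⟨x, Subtype.ext hx⟩

theorem relIndex_GA {φ : M6 →* Co0} (hφ : Function.Injective φ) (h : ∀ x, φ x ∈ GA) : φ.range.relIndex GA = 58032128000 := by
  have hle : φ.range ≤ GA := by rintro _ ⟨x, rfl⟩; exact h x
  have h1 : Nat.card (φ.range.subgroupOf GA) * (φ.range.subgroupOf GA).index = Nat.card GA :=
    Subgroup.card_mul_index _
  rw [Nat.card_congr (Subgroup.subgroupOfEquivOfLe hle).toEquiv, card_GA, card_range hφ] at h1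
  show (φ.range.subgroupOf GA).index = _
  omega

theorem not_dvd {G : Subgroup Co0} {φ : M6 →* Co0} (hφ : Function.Injective φ) (h : ∀ x, φ x ∈ G) (hG : G ≤ GA) :
    ¬ 3 ∣ φ.range.relIndex G := by
  intro h3
  have hle : φ.range ≤ G := by rintro _ ⟨x, rfl⟩; exact h x
  have h1 := Subgroup.relIndex_mul_relIndex φ.range G GA hle hG
  rw [relIndex_GA hφ fun x => hG (h x)] at h1
  have h2 : 3 ∣ 58032128000 := h1 ▸ (h3.mul_right _)
  omega

theorem index_A : ¬ 3 ∣ pA.range.index := by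
  rw [pA, index_cod]; exact not_dvd (ph_injective _ _ _) mem_A le_rfl

theorem index_C : ¬ 3 ∣ pC.range.index := by
  rw [pC, index_cod]; exact not_dvd (ph_injective _ _ _) mem_C GC_le_GA

theorem index_C2 : ¬ 3 ∣ pC2.range.index := by
  rw [pC2, index_cod]
  intro h3
  have hle : ph2.range ≤ GC := by rintro _ ⟨x, rfl⟩; exact mem_C x
  have h1 := Subgroup.relIndex_mul_relIndex ph2.range GC GC2 hle GC_le_GC2
  rw [relIndex_GC] at h1
  rw [← h1] at h3
  rcases (Nat.Prime.dvd_mul Nat.prime_three).1 h3 with h | h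
  · exact not_dvd (ph_injective _ _ _) mem_C GC_le_GA h
  · omega

/-! ### The realised elements inside the groups -/

/-- `f` is induced by an element of `G` on the elements satisfying `P` -/
def Rz {G : Type*} [Group G] (φ : M6 →* G) (P : M6 → Prop) (f : M6 → M6) : Prop :=
  ∃ g : G, ∀ x, P x → φ (f x) = g * φ x * g⁻¹

theorem rz_of {G : Subgroup Co0} {φ : M6 →* Co0} {P : M6 → Prop} {f : M6 → M6} {g : Co0} (hφ : ∀ x, φ x ∈ G)
    (hg : g ∈ G) (h : ∀ x, P x → φ (f x) = g * φ x * g⁻¹) : Rz (φ.codRestrict G hφ) P f :=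
  ⟨⟨g, hg⟩, fun x hx => Subtype.ext (h x hx)⟩

theorem A_t1 : Rz pA (fun _ => True) (tor 1 1 1 1) := rz_of mem_A g1_f0 fun x _ => r1 x
theorem A_t2 : Rz pA (fun _ => True) (tor 1 0 1 (-1)) := rz_of mem_A g2_f0 fun x _ => r2 x
theorem A_t4 : Rz pA (fun _ => True) (tor 1 0 (-1) 1) := rz_of mem_A g4_f0 fun x _ => r4 x
theorem A_v : Rz pA (· ∈ MV) wv := rz_of mem_A g5_f0 fun _ hx => r5 hx
theorem A_w0 : Rz pA (· ∈ MQ) (wk 0 0) := rz_of mem_A g6_f0 fun _ hx => r6 hx
theorem A_w1 : Rz pA (· ∈ MQ) (wk 1 0) := rz_of mem_A g7_f0 fun _ hx => r7 hx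

theorem C_t1 : Rz pC (fun _ => True) (tor 1 1 (-1) (-1)) := rz_of mem_C ⟨k1_f0, k1_f10⟩ fun x _ => q1 x
theorem C_t2 : Rz pC (fun _ => True) (tor 0 1 (-1) 1) := rz_of mem_C ⟨k2_f0, k2_f10⟩ fun x _ => q2 x
theorem C_v : Rz pC (· ∈ MV) wv := rz_of mem_C ⟨k4_f0, k4_f10⟩ fun _ hx => q4 hx
theorem C_w1 : Rz pC (· ∈ MQ) (wk 1 1) := rz_of mem_C ⟨k5_f0, k5_f10⟩ fun _ hx => q5 hx
theorem C_w2 : Rz pC (· ∈ MQ) (wk (-1) (-1)) := rz_of mem_C ⟨k6_f0, k6_f10⟩ fun _ hx => q6 hx

theorem C2_t1 : Rz pC2 (fun _ => True) (tor 1 1 (-1) (-1)) := rz_of mem_C2 (Or.inl ⟨k1_f0, k1_f10⟩) fun x _ => q1 x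
theorem C2_t2 : Rz pC2 (fun _ => True) (tor 0 1 (-1) 1) := rz_of mem_C2 (Or.inl ⟨k2_f0, k2_f10⟩) fun x _ => q2 x
theorem C2_t3 : Rz pC2 (fun _ => True) (tor 1 0 (-1) 1) := rz_of mem_C2 (Or.inr ⟨k3_f0, k3_f10⟩) fun x _ => q3 x
theorem C2_v : Rz pC2 (· ∈ MV) wv := rz_of mem_C2 (Or.inl ⟨k4_f0, k4_f10⟩) fun _ hx => q4 hx
theorem C2_w1 : Rz pC2 (· ∈ MQ) (wk 1 1) := rz_of mem_C2 (Or.inl ⟨k5_f0, k5_f10⟩) fun _ hx => q5 hx
theorem C2_w2 : Rz pC2 (· ∈ MQ) (wk (-1) (-1)) := rz_of mem_C2 (Or.inl ⟨k6_f0, k6_f10⟩) fun _ hx => q6 hx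

end Cfsg.Agent.H264.U4
end

private theorem dce_318e7711a4dc : _root_.True := by
  try have : _root_.True := by simp only [_root_.Cfsg.Agent.H264.U4.M6.ep.eq_1]
  try have : _root_.True := by simp only [_root_.Cfsg.Agent.H264.U4.pC.eq_1]
  try have : _root_.True := by simp only [_root_.Cfsg.Agent.H264.U4.pB2.eq_1]
  try have : _root_.True := by simp only [_root_.Cfsg.Agent.H264.U4.pB.eq_1]
  try have : _root_.True := by simp only [_root_.Cfsg.Agent.H264.U4.f7.eq_1]
  try have : _root_.True := by simp only [_root_.Cfsg.Agent.H264.U4.pA.eq_1]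
  try have : _root_.True := by simp only [_root_.Cfsg.Agent.H264.U4.f0.eq_1]
  try have : _root_.True := by simp only [_root_.Cfsg.Agent.H264.U4.pC2.eq_1]
  try have : _root_.True := by simp only [_root_.Cfsg.Agent.H264.U4.f1.eq_1]
  exact _root_.True.intro
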